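import Mathlib.GroupTheory.GroupAction.Primitive
import Mathlib.GroupTheory.GroupAction.Quotient
import Mathlib.GroupTheory.Transfer
import Mathlib.GroupTheory.Sylow
import Mathlib.GroupTheory.SpecificGroups.Cyclic

/-!
# Primitive groups of degree `2p` with a Sylow normaliser of order `2p`
-/

set_option autoImplicit false
set_option linter.style.haveILetI false
set_option linter.unusedSectionVars false

noncomputable section

namespace CfsgLib.PermPrime.TwoP

open MulAction

universe u v

/-- The running hypotheses. -/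
structure Hyp (p : ℕ) (G : Type u) [Group G] (α : Type v) [MulAction G α] [Fintype α] : Prop where
  prim : IsPreprimitive G α
  faith : FaithfulSMul G α
  hp : 5 ≤ p
  hα : Fintype.card α = 2 * p
  hN : ∃ P : Sylow p G, Nat.card (Subgroup.normalizer ((P : Subgroup G) : Set G)) = 2 * p

theorem card_sylow_eq_index {q : ℕ} [Fact q.Prime] {G : Type u} [Group G] [Finite G]
    (P : Sylow q G) :
    Nat.card (Sylow q G) = (Subgroup.normalizer ((P : Subgroup G) : Set G)).index :=
  P.card_eq_index_normalizer

variable {p : ℕ} [hp : Fact p.Prime] {G : Type u} [Group G] [Finite G] {α : Type v} [MulAction G α]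
  [Fintype α] (H : Hyp p G α)

include H

theorem Hyp.odd : Odd p := hp.out.odd_of_ne_two (by have := H.hp; omega)

theorem Hyp.nontrivial : Nontrivial α :=
  Fintype.one_lt_card_iff_nontrivial.1 (by rw [H.hα]; have := H.hp; omega)

theorem Hyp.transitive : IsPretransitive G α := H.prim.toIsPretransitive

theorem Hyp.card_normalizer (P : Sylow p G) :
    Nat.card (Subgroup.normalizer ((P : Subgroup G) : Set G)) = 2 * p := by
  obtain ⟨Q, hQ⟩ := H.hN
  have e : (Subgroup.normalizer ((P : Subgroup G) : Set G)).index =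
      (Subgroup.normalizer ((Q : Subgroup G) : Set G)).index := by
    rw [← card_sylow_eq_index P, ← card_sylow_eq_index Q]
  have h1 := (Subgroup.normalizer ((P : Subgroup G) : Set G)).card_mul_index
  have h2 := (Subgroup.normalizer ((Q : Subgroup G) : Set G)).card_mul_index
  rw [e] at h1
  rw [hQ] at h2
  have hpos : 0 < (Subgroup.normalizer ((Q : Subgroup G) : Set G)).index :=
    Nat.pos_of_ne_zero Subgroup.index_ne_zero_of_finite
  exact Nat.eq_of_mul_eq_mul_right hpos (h1.trans h2.symm)

theorem Hyp.dvd_card : 2 * p ∣ Nat.card G := by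
  obtain ⟨P⟩ : Nonempty (Sylow p G) := inferInstance
  rw [← H.card_normalizer P]
  exact Subgroup.card_subgroup_dvd_card _

theorem Hyp.card_sylow (P : Sylow p G) : Nat.card (P : Subgroup G) = p := by
  obtain ⟨k, hk⟩ := IsPGroup.iff_card.1 P.2
  have h1 : p ^ k ∣ 2 * p := by
    rw [← hk, ← H.card_normalizer P]
    exact Subgroup.card_dvd_of_le Subgroup.le_normalizer
  have h2 : k ≠ 0 := by
    rintro rfl
    have h := P.not_dvd_index
    rw [pow_zero] at hk
    have hd := H.dvd_card
    rw [← (P : Subgroup G).card_mul_index, hk, one_mul] at hd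
    exact h ((dvd_mul_left p 2).trans hd)
  have h3 : k ≤ 1 := by
    by_contra hk'
    have h4 : p ^ 2 ∣ 2 * p := (pow_dvd_pow p (by omega : 2 ≤ k)).trans h1
    rw [sq] at h4
    have h5 := Nat.le_of_dvd (by norm_num) (Nat.dvd_of_mul_dvd_mul_right hp.out.pos h4)
    have := H.hp
    omega
  rw [hk, show k = 1 by omega, pow_one]

/-- No point stabiliser has order divisible by `p`. -/
theorem Hyp.not_dvd_stabilizer (a : α) : ¬ p ∣ Nat.card (stabilizer G a) := by
  intro hd
  haveI := H.transitive
  have h1 : (stabilizer G a).index = 2 * p := by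
    rw [index_stabilizer_of_transitive, Nat.card_eq_fintype_card, H.hα]
  obtain ⟨P⟩ : Nonempty (Sylow p G) := inferInstance
  have h2 : p * p ∣ Nat.card (P : Subgroup G) * (P : Subgroup G).index := by
    rw [(P : Subgroup G).card_mul_index, ← (stabilizer G a).card_mul_index, h1]
    exact Nat.mul_dvd_mul hd (dvd_mul_left p 2)
  rw [H.card_sylow P] at h2
  exact P.not_dvd_index (Nat.dvd_of_mul_dvd_mul_left hp.out.pos h2)

/-- An element with a fixed point is regular. -/
theorem Hyp.regular_of_fix {g : G} {a : α} (h : g • a = a) : ¬ p ∣ orderOf g := fun hd =>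
  H.not_dvd_stabilizer a
    (hd.trans (Subgroup.orderOf_dvd_natCard _ (mem_stabilizer_iff.2 h)))

/-- A normal subgroup of order prime to `p` is trivial. -/
theorem Hyp.eq_bot_of_regular {K : Subgroup G} [K.Normal] (h : ¬ p ∣ Nat.card K) : K = ⊥ := by
  by_contra hne
  haveI := H.prim
  haveI := H.faith
  obtain ⟨k, hk, hk1⟩ : ∃ k ∈ K, k ≠ 1 := by
    by_contra! hall
    exact hne ((Subgroup.eq_bot_iff_forall K).2 hall)
  have hfix : fixedPoints K α ≠ Set.univ := fun huniv => hk1
    (FaithfulSMul.eq_of_smul_eq_smul fun a : α => by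
      have ha : a ∈ fixedPoints K α := huniv ▸ Set.mem_univ a
      rw [one_smul]
      exact ha ⟨k, hk⟩)
  haveI : IsPretransitive K α := IsQuasiPreprimitive.isPretransitive_of_normal hfix
  haveI := H.nontrivial
  obtain ⟨a⟩ : Nonempty α := inferInstance
  have h1 : (stabilizer K a).index = 2 * p := by
    rw [index_stabilizer_of_transitive, Nat.card_eq_fintype_card, H.hα]
  refine h ((dvd_mul_left p 2).trans ?_)
  rw [← h1]
  exact Subgroup.index_dvd_card _

/-- No subgroup with a central Sylow subgroup in its normaliser is normal and contains `P`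
unless it is `P`. -/
theorem Hyp.false_of_transfer {K : Subgroup G} [K.Normal] (P : Sylow p G)
    (hPK : (P : Subgroup G) ≤ K) (hK : 2 * p ∣ Nat.card K)
    (hNC : Subgroup.normalizer ((P.subtype hPK : Subgroup K) : Set K) ≤
      Subgroup.centralizer ((P.subtype hPK : Subgroup K) : Set K)) : False := by
  set Q := P.subtype hPK
  set R := (MonoidHom.transferSylow Q hNC).ker
  have hR : ¬ p ∣ Nat.card R := MonoidHom.not_dvd_card_ker_transferSylow Q hNC
  have hQ : Nat.card (Q : Subgroup K) = p :=
    (Nat.card_congr (Subgroup.subgroupOfEquivOfLe hPK).toEquiv).trans (H.card_sylow P)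
  have hidx : R.index = p := by
    rw [(MonoidHom.ker_transferSylow_isComplement' Q hNC).symm.index_eq_card, hQ]
  have hchar : ∀ k : K, k ∈ R ↔ k ^ Nat.card R = 1 := by
    intro k
    refine ⟨fun hk => congrArg Subtype.val (pow_card_eq_one' (x := (⟨k, hk⟩ : R))), fun hk => ?_⟩
    have h1 := Subgroup.pow_index_mem R k
    rw [hidx] at h1
    obtain ⟨m, hm⟩ := exists_pow_eq_self_of_coprime (x := k) (n := p)
      ((hp.out.coprime_iff_not_dvd.2 hR).coprime_dvd_right (orderOf_dvd_of_pow_eq_one hk))
    rw [← hm]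
    exact Subgroup.pow_mem _ h1 m
  haveI : (R.map K.subtype).Normal := by
    refine ⟨?_⟩
    rintro _ ⟨k, hk, rfl⟩ g
    refine ⟨⟨g * k * g⁻¹, Subgroup.Normal.conj_mem ‹K.Normal› _ k.2 g⟩, (hchar _).2 ?_, rfl⟩
    refine Subtype.ext ?_
    rw [Subgroup.coe_pow, Subgroup.coe_one]
    show (g * (k : G) * g⁻¹) ^ Nat.card R = 1
    rw [conj_pow, show ((k : G)) ^ Nat.card R = 1 from congrArg Subtype.val ((hchar k).1 hk),
      mul_one, mul_inv_cancel]
  have hbot : R.map K.subtype = ⊥ := H.eq_bot_of_regular (by
    rwa [Subgroup.card_map_of_injective K.subtype_injective])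
  have hR1 : Nat.card R = 1 := by
    rw [← Subgroup.card_map_of_injective K.subtype_injective, hbot, Subgroup.card_bot]
  have h2 := R.card_mul_index
  rw [hR1, hidx, one_mul] at h2
  rw [← h2] at hK
  have := Nat.le_of_dvd hp.out.pos hK
  have := hp.out.pos
  omega

/-- The Sylow subgroup is self-centralising. -/
theorem Hyp.centralizer_eq (P : Sylow p G) :
    Subgroup.centralizer ((P : Subgroup G) : Set G) = (P : Subgroup G) := by
  set C := Subgroup.centralizer ((P : Subgroup G) : Set G)
  set N := Subgroup.normalizer ((P : Subgroup G) : Set G)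
  have hPC : (P : Subgroup G) ≤ C := fun z hz => by
    refine Subgroup.mem_centralizer_iff.2 fun y hy => ?_
    haveI : IsCyclic (P : Subgroup G) := isCyclic_of_prime_card (H.card_sylow P)
    exact congrArg Subtype.val ((IsCyclic.isMulCommutative (α := (P : Subgroup G))).is_comm.comm
      (⟨y, hy⟩ : (P : Subgroup G)) ⟨z, hz⟩)
  have hCN : C ≤ N := Subgroup.centralizer_le_normalizer _
  have h1 : p ∣ Nat.card C := by
    have := Subgroup.card_dvd_of_le hPC
    rwa [show Nat.card (P : Subgroup G) = p from H.card_sylow P] at this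
  obtain ⟨j, hj⟩ := h1
  have h2 : j ∣ 2 := by
    have := Subgroup.card_dvd_of_le hCN
    rw [hj, H.card_normalizer P, mul_comm 2 p] at this
    exact Nat.dvd_of_mul_dvd_mul_left hp.out.pos this
  rcases (Nat.dvd_prime Nat.prime_two).1 h2 with rfl | rfl
  · refine (Subgroup.eq_of_le_of_card_ge hPC ?_).symm
    rw [hj, mul_one, H.card_sylow P]
  · exfalso
    have hNC : C = N := Subgroup.eq_of_le_of_card_ge hCN (by rw [hj, H.card_normalizer P, mul_comm])
    refine H.false_of_transfer (K := ⊤) P le_top (by
      rw [Subgroup.card_top]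
      exact H.dvd_card) fun k hk => ?_
    have hk' : (k : G) ∈ N := by
      refine Subgroup.mem_normalizer_iff.2 fun z => ?_
      exact Subgroup.mem_normalizer_iff.1 hk ⟨z, Subgroup.mem_top z⟩
    rw [← hNC] at hk'
    exact Subgroup.mem_centralizer_iff.2 fun z hz =>
      Subtype.ext (Subgroup.mem_centralizer_iff.1 hk' (z : G) hz)

/-- The group is simple. -/
theorem Hyp.eq_top_of_normal (K : Subgroup G) [hKn : K.Normal] (hne : K ≠ ⊥) : K = ⊤ := by
  by_contra htop
  haveI := H.prim
  haveI := H.faith
  haveI := H.nontrivial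
  obtain ⟨k, hk, hk1⟩ : ∃ k ∈ K, k ≠ 1 := by
    by_contra! hall
    exact hne ((Subgroup.eq_bot_iff_forall K).2 hall)
  have hfix : fixedPoints K α ≠ Set.univ := fun huniv => hk1
    (FaithfulSMul.eq_of_smul_eq_smul fun a : α => by
      have ha : a ∈ fixedPoints K α := huniv ▸ Set.mem_univ a
      rw [one_smul]
      exact ha ⟨k, hk⟩)
  haveI : IsPretransitive K α := IsQuasiPreprimitive.isPretransitive_of_normal hfix
  obtain ⟨a⟩ : Nonempty α := inferInstance
  have hK : 2 * p ∣ Nat.card K := by
    rw [show 2 * p = (stabilizer K a).index by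
      rw [index_stabilizer_of_transitive, Nat.card_eq_fintype_card, H.hα]]
    exact Subgroup.index_dvd_card _
  obtain ⟨y, hy⟩ := exists_prime_orderOf_dvd_card' (G := K) p ((dvd_mul_left p 2).trans hK)
  have hZ : Nat.card (Subgroup.zpowers (y : G)) = p := by
    rw [Nat.card_zpowers, Subgroup.orderOf_coe, hy]
  obtain ⟨P, hP⟩ := (IsPGroup.of_card (n := 1) (by rw [hZ, pow_one])).exists_le_sylow
  have hPK : (P : Subgroup G) ≤ K := by
    rw [← Subgroup.eq_of_le_of_card_ge hP (by rw [hZ, H.card_sylow P])]
    exact Subgroup.zpowers_le.2 y.2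
  refine H.false_of_transfer P hPK hK fun x hx => ?_
  have hx' : (x : G) ∈ Subgroup.normalizer ((P : Subgroup G) : Set G) := by
    refine Subgroup.mem_normalizer_iff.2 fun z => ⟨fun hz => ?_, fun hz => ?_⟩
    · exact (Subgroup.mem_normalizer_iff.1 hx ⟨z, hPK hz⟩).1 hz
    · have hzK : z ∈ K := by
        have h := hKn.conj_mem _ (hPK hz) (x : G)⁻¹
        simpa [mul_assoc] using h
      exact (Subgroup.mem_normalizer_iff.1 hx ⟨z, hzK⟩).2 hz
  -- otherwise the normaliser lies in `K`
  have hxP : (x : G) ∈ (P : Subgroup G) := by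
    by_contra hxP
    set N := Subgroup.normalizer ((P : Subgroup G) : Set G)
    have hlt : (P : Subgroup G) < K ⊓ N :=
      lt_of_le_of_ne (le_inf hPK Subgroup.le_normalizer) fun he => hxP (he ▸ ⟨x.2, hx'⟩)
    have hcard : Nat.card N ≤ Nat.card (K ⊓ N : Subgroup G) := by
      obtain ⟨c, hc⟩ := Subgroup.card_dvd_of_le hlt.le
      have hdvd := Subgroup.card_dvd_of_le (inf_le_right : K ⊓ N ≤ N)
      rw [H.card_normalizer P, hc, H.card_sylow P, mul_comm 2 p] at hdvd
      have hc2 : c = 2 := by
        rcases (Nat.dvd_prime Nat.prime_two).1 (Nat.dvd_of_mul_dvd_mul_left hp.out.pos hdvd) with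
          h | h
        · exfalso
          refine hlt.ne (Subgroup.eq_of_le_of_card_ge hlt.le ?_)
          rw [hc, h, mul_one]
        · exact h
      rw [H.card_normalizer P, hc, H.card_sylow P, hc2, mul_comm]
    have hNK : N ≤ K := by
      rw [← Subgroup.eq_of_le_of_card_ge (inf_le_right : K ⊓ N ≤ N) hcard]
      exact inf_le_left
    refine htop ?_
    rw [← Sylow.normalizer_sup_eq_top' P hPK]
    exact (sup_of_le_right hNK).symm
  refine Subgroup.mem_centralizer_iff.2 fun z hz => Subtype.ext ?_
  haveI : IsCyclic (P : Subgroup G) := isCyclic_of_prime_card (H.card_sylow P)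
  have h := congrArg Subtype.val ((IsCyclic.isMulCommutative (α := (P : Subgroup G))).is_comm.comm
      (⟨(z : G), hz⟩ : (P : Subgroup G)) ⟨(x : G), hxP⟩)
  simpa using h

theorem Hyp.isSimpleGroup : IsSimpleGroup G := by
  haveI : Nontrivial G := Finite.one_lt_card_iff_nontrivial.1 (by
    have := Nat.le_of_dvd Nat.card_pos H.dvd_card
    have := H.hp
    omega)
  refine ⟨fun K hK => ?_⟩
  by_cases h : K = ⊥
  · exact Or.inl h
  · exact Or.inr (H.eq_top_of_normal K h)

theorem Hyp.card_eq (a : α) : Nat.card G = 2 * p * Nat.card (stabilizer G a) := by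
  haveI := H.transitive
  rw [← (stabilizer G a).card_mul_index, show (stabilizer G a).index = 2 * p by
    rw [index_stabilizer_of_transitive, Nat.card_eq_fintype_card, H.hα], mul_comm]

theorem Hyp.card_stabilizer_eq (a : α) : Nat.card (stabilizer G a) = Nat.card (Sylow p G) := by
  obtain ⟨P⟩ : Nonempty (Sylow p G) := inferInstance
  have h := (Subgroup.normalizer ((P : Subgroup G) : Set G)).card_mul_index
  rw [H.card_normalizer P, ← card_sylow_eq_index P, H.card_eq a] at h
  exact (Nat.eq_of_mul_eq_mul_left (by have := hp.out.pos; omega) h).symm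

theorem Hyp.stabilizer_modEq (a : α) : Nat.card (stabilizer G a) % p = 1 := by
  have h : Nat.card (Sylow p G) % p = 1 % p := card_sylow_modEq_one p G
  rwa [Nat.mod_eq_of_lt hp.out.one_lt, ← H.card_stabilizer_eq a] at h

theorem Hyp.stabilizer_ne_bot (a : α) : 1 < Nat.card (stabilizer G a) := by
  refine lt_of_le_of_ne Nat.card_pos fun h => ?_
  obtain ⟨P⟩ : Nonempty (Sylow p G) := inferInstance
  have h1 : Subgroup.normalizer ((P : Subgroup G) : Set G) = ⊤ := by
    rw [← Subgroup.index_eq_one, ← card_sylow_eq_index P, ← H.card_stabilizer_eq a, ← h]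
  haveI : (P : Subgroup G).Normal := Subgroup.normalizer_eq_top_iff.1 h1
  have hP := H.card_sylow P
  have hne : (P : Subgroup G) ≠ ⊥ := fun hb => by
    rw [hb, Subgroup.card_bot] at hP
    exact hp.out.one_lt.ne hP
  have h2 := H.eq_top_of_normal _ hne
  rw [h2, Subgroup.card_top] at hP
  have := Nat.le_of_dvd hp.out.pos (hP ▸ H.dvd_card)
  have := hp.out.pos
  omega

end CfsgLib.PermPrime.TwoP
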