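import Cfsg.Agent.Lib.PermPrime.TwoP.Orbitals

/-!
# Degree ten
-/

set_option autoImplicit false
set_option linter.style.haveILetI false
set_option linter.unusedSectionVars false

noncomputable section

namespace CfsgLib.PermPrime.TwoP

open Cfsg CfsgLib.Characters MulAction

universe u v

variable {p : ℕ} [hp : Fact p.Prime] {G : Type u} [Group G] [Fintype G] {α : Type v}
  [MulAction G α] [Fintype α] (H : Hyp p G α)
  (h3 : Nat.card (Quotient (orbitRel G (α × α))) = 3)

include H in
theorem Hyp.mem_orbit_stabilizer_iff {a b c : α} :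
    c ∈ orbit (stabilizer G a) b ↔ Rel (G := G) (a, b) (a, c) := by
  constructor
  · rintro ⟨⟨g, hg⟩, rfl⟩
    exact ⟨g, Prod.ext (mem_stabilizer_iff.1 hg) rfl⟩
  · rintro ⟨g, hg⟩
    exact ⟨⟨g, mem_stabilizer_iff.2 (congrArg Prod.fst hg)⟩, congrArg Prod.snd hg⟩

include H h3 in
/-- The point stabiliser is bounded by its action on a small orbit and the orbits next to it. -/
theorem Hyp.stabilizer_dvd {a b : α} (hab : a ≠ b) {k : ℕ}
    (hk : (orbit (stabilizer G a) b).ncard = k) (hsmall : k + 1 < 2 * p) :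
    Nat.card (stabilizer G a) ∣ k.factorial * (k - 1).factorial ^ k := by
  classical
  haveI := H.transitive
  haveI := H.prim
  haveI := H.faith
  haveI := H.nontrivial
  set O := orbit (stabilizer G a) b with hO
  let Adj : α → α → Prop := fun u c => Rel (G := G) (a, b) (u, c)
  have hOAdj : ∀ c, c ∈ O ↔ Adj a c := fun c => H.mem_orbit_stabilizer_iff
  have hsymm : ∀ u c, Adj u c → Adj c u := fun u c h => by
    obtain ⟨s, hs1, hs2⟩ := H.exists_swap h3 u c
    exact rel_trans h ⟨s, Prod.ext hs1 hs2⟩
  have hsmul : ∀ (g : G) (u c : α), Adj u c → Adj (g • u) (g • c) := fun g u c h =>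
    rel_trans h ⟨g, rfl⟩
  have hinvA : ∀ (g : G) (u c : α), Adj (g • u) (g • c) ↔ Adj u c := fun g u c =>
    ⟨fun h => by simpa using hsmul g⁻¹ _ _ h, hsmul g u c⟩
  have hcardAdj : ∀ u, {c | Adj u c}.ncard = k := by
    intro u
    obtain ⟨g, hg⟩ := exists_smul_eq G a u
    subst hg
    rw [← hk, ← Set.ncard_image_of_injective O (MulAction.injective g)]
    congr 1
    ext c
    rw [Set.mem_image, Set.mem_ofPred_eq]
    refine ⟨fun h => ⟨g⁻¹ • c, (hOAdj _).2 ?_, smul_inv_smul g c⟩, ?_⟩
    · simpa using hsmul g⁻¹ _ _ h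
    · rintro ⟨d, hd, rfl⟩
      exact hsmul g _ _ ((hOAdj d).1 hd)
  have haO : a ∉ O := fun h => rel_ne ((hOAdj a).1 h) hab rfl
  have hbO : b ∈ O := mem_orbit_self b
  -- every point is at distance at most two
  have hcover : ∀ c, c ≠ a → c ∉ O → ∃ u ∈ O, Adj u c := by
    by_contra! hfail
    obtain ⟨c₀, hc₀a, hc₀O, hc₀⟩ := hfail
    set Z : Set α := insert a O with hZ
    have hclosed : ∀ u ∈ O, ∀ d, Adj u d → d ∈ Z := by
      intro u hu d hd
      by_contra hdZ
      rw [hZ, Set.mem_insert_iff, not_or] at hdZ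
      rcases rel_or (G := G) h3 hab (Ne.symm hdZ.1) (Ne.symm hc₀a) (fun h => hdZ.2 ((hOAdj d).2 h))
        with h | h
      · exact hc₀O ((hOAdj c₀).2 h)
      · obtain ⟨g, hg⟩ := h
        have hga : g • a = a := congrArg Prod.fst hg
        have h' := hsmul g u d hd
        rw [show g • d = c₀ from congrArg Prod.snd hg] at h'
        refine hc₀ (g • u) ?_ h'
        exact (hOAdj _).2 (hga ▸ hsmul g a u ((hOAdj u).1 hu))
    have himage : ∀ g : G, g • a ∈ Z → ∀ d ∈ Z, g • d ∈ Z := by
      intro g hg d hd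
      rcases Set.mem_insert_iff.1 hd with rfl | hd
      · exact hg
      · have h1 := hsmul g a d ((hOAdj d).1 hd)
        rcases Set.mem_insert_iff.1 hg with hga | hgO
        · exact Set.mem_insert_of_mem _ ((hOAdj _).2 (hga ▸ h1))
        · exact hclosed _ hgO _ h1
    let S : Subgroup G :=
      { carrier := {g | ∀ d, d ∈ Z ↔ g • d ∈ Z}
        mul_mem' := fun {g h} hg hh d => by rw [mul_smul]; exact (hh d).trans (hg _)
        one_mem' := fun d => by rw [one_smul]
        inv_mem' := fun {g} hg d => by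
          rw [hg (g⁻¹ • d), smul_inv_smul] }
    have hmem : ∀ g : G, g • a ∈ Z → g ∈ S := by
      intro g hg
      have hbij : Set.BijOn (fun d => g • d) Z Z :=
        ((Set.toFinite Z).injOn_iff_bijOn_of_mapsTo (himage g hg)).1 (MulAction.injective g).injOn
      intro d
      refine ⟨himage g hg d, fun hd => ?_⟩
      obtain ⟨e, he, hee⟩ := hbij.surjOn hd
      rwa [← MulAction.injective g hee]
    obtain ⟨s, hs⟩ := exists_smul_eq G a b
    have hle : stabilizer G a ≤ S := fun g hg =>
      hmem g (by rw [mem_stabilizer_iff.1 hg]; exact Set.mem_insert _ _)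
    have hsS : s ∈ S := hmem s (by rw [hs]; exact Set.mem_insert_of_mem _ hbO)
    have htop : S = ⊤ := (IsPreprimitive.isCoatom_stabilizer_of_isPreprimitive (G := G) a).2 S
      (lt_of_le_of_ne hle fun e => hab (by
        rw [← e, mem_stabilizer_iff, hs] at hsS
        exact hsS.symm))
    obtain ⟨g, hg⟩ := exists_smul_eq G a c₀
    have hgS : g ∈ S := htop ▸ Subgroup.mem_top g
    have := (hgS a).1 (Set.mem_insert _ _)
    rw [hg] at this
    rcases Set.mem_insert_iff.1 this with h | h
    · exact hc₀a h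
    · exact hc₀O h
  -- the action on the orbit and its kernel
  set φ := MulAction.toPermHom (stabilizer G a) O with hφ
  have hrange : Nat.card φ.range ∣ k.factorial := by
    have h := Subgroup.card_subgroup_dvd_card φ.range
    rwa [Nat.card_perm, Nat.card_coe_set_eq, hk] at h
  have hfix : ∀ g : φ.ker, ∀ u : O, ((g : stabilizer G a) : G) • (u : α) = u := fun g u => by
    have h := DFunLike.congr_fun (MonoidHom.mem_ker.1 g.2) u
    exact congrArg Subtype.val h
  have hpres : ∀ (g : φ.ker) (u : O) (c : α), (Adj u c ∧ c ≠ a) ↔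
      (Adj u (((g : stabilizer G a) : G) • c) ∧ ((g : stabilizer G a) : G) • c ≠ a) := by
    intro g u c
    have ha : ((g : stabilizer G a) : G) • a = a := mem_stabilizer_iff.1 (g : stabilizer G a).2
    conv_rhs => rw [← hfix g u, hinvA]
    refine and_congr_right' (not_congr ⟨fun h => by rw [h, ha], fun h => ?_⟩)
    exact smul_left_cancel _ (h.trans ha.symm)
  let Φ : φ.ker →* ∀ u : O, Equiv.Perm {c : α // Adj u c ∧ c ≠ a} :=
    { toFun := fun g u => (MulAction.toPerm ((g : stabilizer G a) : G) : Equiv.Perm α).subtypePerm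
        fun c => (hpres g u c).symm
      map_one' := funext fun u => Equiv.ext fun c => Subtype.ext (one_smul G _)
      map_mul' := fun g h => funext fun u => Equiv.ext fun c => Subtype.ext (mul_smul _ _ _) }
  have hΦ : Function.Injective Φ := by
    intro g h he
    refine Subtype.ext (Subtype.ext (FaithfulSMul.eq_of_smul_eq_smul fun c : α => ?_))
    by_cases hca : c = a
    · rw [hca, mem_stabilizer_iff.1 (g : stabilizer G a).2, mem_stabilizer_iff.1 (h : stabilizer G a).2]
    by_cases hcO : c ∈ O
    · exact (hfix g ⟨c, hcO⟩).trans (hfix h ⟨c, hcO⟩).symm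
    obtain ⟨u, hu, huc⟩ := hcover c hca hcO
    exact congrArg Subtype.val (DFunLike.congr_fun (congrFun he ⟨u, hu⟩) ⟨c, huc, hca⟩)
  have hker : Nat.card φ.ker ∣ (k - 1).factorial ^ k := by
    have h := Subgroup.card_dvd_of_injective Φ hΦ
    rw [Nat.card_pi, Finset.prod_congr rfl (fun u _ => ?_ : ∀ u ∈ (Finset.univ : Finset O),
      Nat.card (Equiv.Perm {c : α // Adj u c ∧ c ≠ a}) = (k - 1).factorial), Finset.prod_const,
      Finset.card_univ, ← Nat.card_eq_fintype_card, Nat.card_coe_set_eq, hk] at h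
    · exact h
    · rw [Nat.card_perm]
      congr 1
      have hu : Adj u a := hsymm a u ((hOAdj u).1 u.2)
      rw [← hcardAdj u, ← Set.ncard_diff_singleton_of_mem (show a ∈ {c | Adj u c} from hu),
        ← Nat.card_coe_set_eq]
      exact Nat.card_congr (Equiv.subtypeEquivRight fun c => Iff.rfl)
  rw [← φ.ker.card_mul_index, Subgroup.index_ker, mul_comm k.factorial]
  exact Nat.mul_dvd_mul hker hrange

include H h3 in
theorem Hyp.card_eq_sixty (hp5 : p = 5) : Nat.card G = 60 := by
  classical
  haveI := H.transitive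
  haveI := H.nontrivial
  obtain ⟨a, b, hab⟩ := exists_pair_ne α
  obtain ⟨b', hab', hn⟩ : ∃ b', a ≠ b' ∧ ¬ Rel (G := G) (a, b) (a, b') := by
    by_contra! hall
    have h2 : IsMultiplyPretransitive G α 2 := by
      rw [is_two_pretransitive_iff]
      intro x y u v hxy huv
      have key : ∀ {x y : α}, x ≠ y → Rel (G := G) (a, b) (x, y) := fun {x y} hxy => by
        obtain ⟨g, hg⟩ := exists_smul_eq G x a
        refine rel_trans (hall (g • y) fun e => hxy (smul_left_cancel g (hg.trans e))) ⟨g⁻¹, ?_⟩
        exact Prod.ext (inv_smul_eq_iff.2 hg.symm) (inv_smul_smul g y)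
      obtain ⟨g, hg⟩ := rel_trans (rel_symm (key hxy)) (key huv)
      exact ⟨g, congrArg Prod.fst hg, congrArg Prod.snd hg⟩
    rw [(PermTwo.card_orbits_pair_eq_two_iff (by
      rw [Nat.card_eq_fintype_card, H.hα]; omega)).2 h2] at h3
    omega
  have hmem : ∀ {b c : α}, c ∈ orbit (stabilizer G a) b ↔ Rel (G := G) (a, b) (a, c) :=
    H.mem_orbit_stabilizer_iff
  have hsum : (orbit (stabilizer G a) b).ncard + (orbit (stabilizer G a) b').ncard + 1 = 10 := by
    rw [← Set.ncard_union_eq, ← Set.ncard_insert_of_notMem (a := a)]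
    · rw [show insert a (orbit (stabilizer G a) b ∪ orbit (stabilizer G a) b') = Set.univ from
        Set.eq_univ_of_forall fun c => ?_, Set.ncard_univ, Nat.card_eq_fintype_card, H.hα, hp5]
      by_cases hca : c = a
      · exact Or.inl hca
      · rcases rel_or (G := G) h3 hab hab' (Ne.symm hca) hn with h | h
        · exact Or.inr (Or.inl (hmem.2 h))
        · exact Or.inr (Or.inr (hmem.2 h))
    · rintro (h | h)
      · exact rel_ne (hmem.1 h) hab rfl
      · exact rel_ne (hmem.1 h) hab' rfl
    · exact Set.disjoint_left.2 fun c hc hc' => hn (rel_trans (hmem.1 hc) (rel_symm (hmem.1 hc')))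
  have hdvd : ∀ c : α, (orbit (stabilizer G a) c).ncard ∣ Nat.card (stabilizer G a) := by
    intro c
    rw [← Nat.card_coe_set_eq, Nat.card_congr (orbitEquivQuotientStabilizer (stabilizer G a) c)]
    exact Subgroup.index_dvd_card _
  have hone : ∀ c : α, a ≠ c → 2 ≤ (orbit (stabilizer G a) c).ncard := by
    intro c hc
    obtain ⟨g, hga, hgc⟩ := H.exists_moved h3 a c hc
    exact (Set.one_lt_ncard (Set.toFinite _)).2
      ⟨c, mem_orbit_self c, g • c, ⟨⟨g, mem_stabilizer_iff.2 hga⟩, rfl⟩, Ne.symm hgc⟩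
  have hmod := H.stabilizer_modEq a
  rw [hp5] at hmod
  set n := Nat.card (stabilizer G a) with hn
  suffices hn6 : n = 6 by rw [H.card_eq a, hp5, ← hn, hn6]
  clear_value n
  have key : ∀ {b b' : α}, a ≠ b → (orbit (stabilizer G a) b).ncard + (orbit (stabilizer G a) b').ncard + 1 = 10 →
      2 ≤ (orbit (stabilizer G a) b).ncard →
      (orbit (stabilizer G a) b).ncard ≤ 4 → n = 6 := by
    intro b b' hab hs h2 h4
    have hd := H.stabilizer_dvd h3 hab rfl (by rw [hp5]; omega)
    rw [← hn] at hd
    have hk := hdvd b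
    have hk' := hdvd b'
    generalize hkk : (orbit (stabilizer G a) b).ncard = k at hd hk hs h2 h4
    generalize hll : (orbit (stabilizer G a) b').ncard = l at hk' hs
    interval_cases k
    · obtain rfl : l = 7 := by omega
      have h := Nat.le_of_dvd (by norm_num) (hk'.trans hd)
      norm_num [Nat.factorial] at h
    · obtain rfl : l = 6 := by omega
      norm_num [Nat.factorial] at hd
      have h6 : 6 ∣ n := hk'
      have hle : n ≤ 48 := Nat.le_of_dvd (by norm_num) hd
      obtain ⟨c, rfl⟩ := h6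
      have hc : c ≤ 8 := by omega
      interval_cases c <;> omega
    · obtain rfl : l = 5 := by omega
      obtain ⟨c, rfl⟩ := hk'
      omega
  rcases le_or_gt (orbit (stabilizer G a) b).ncard 4 with h | h
  · exact key hab hsum (hone b hab) h
  · exact key hab' (by omega : _ + (orbit (stabilizer G a) b).ncard + 1 = 10) (hone b' hab') (by omega)

end CfsgLib.PermPrime.TwoP
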