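import Cfsg.Agent.Lib.PermPrime.TwoP.Rank

/-!
# The two orbitals in degree `2p`
-/

set_option autoImplicit false
set_option linter.style.haveILetI false
set_option linter.unusedSectionVars false

noncomputable section

namespace CfsgLib.PermPrime.TwoP

open Cfsg CfsgLib.Characters MulAction

universe u v

variable {p : ℕ} [hp : Fact p.Prime] {G : Type u} [Group G] [Fintype G] {α : Type v}
  [MulAction G α] [Fintype α] (H : Hyp p G α)
  (h3 : Nat.card (Quotient (orbitRel G (α × α))) = 3)

/-- Two pairs in one orbit. -/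
def Rel (z w : α × α) : Prop := ∃ g : G, g • z = w

theorem rel_refl (z : α × α) : Rel (G := G) z z := ⟨1, one_smul G z⟩

theorem rel_symm {z w : α × α} : Rel (G := G) z w → Rel (G := G) w z := by
  rintro ⟨g, rfl⟩
  exact ⟨g⁻¹, inv_smul_smul g z⟩

theorem rel_trans {z w y : α × α} : Rel (G := G) z w → Rel (G := G) w y → Rel (G := G) z y := by
  rintro ⟨g, rfl⟩ ⟨h, rfl⟩
  exact ⟨h * g, mul_smul h g z⟩

theorem rel_ne {a b c d : α} (h : Rel (G := G) (a, b) (c, d)) (hab : a ≠ b) : c ≠ d := by
  obtain ⟨g, hg⟩ := h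
  rintro rfl
  exact hab (smul_left_cancel g ((congrArg Prod.fst hg).trans (congrArg Prod.snd hg).symm))

theorem rel_swap {a b c d : α} (h : Rel (G := G) (a, b) (c, d)) : Rel (G := G) (b, a) (d, c) := by
  obtain ⟨g, hg⟩ := h
  exact ⟨g, Prod.ext (congrArg Prod.snd hg) (congrArg Prod.fst hg)⟩

include h3 in
theorem exists_rel_of_four (z : Fin 4 → α × α) : ∃ i j, i ≠ j ∧ Rel (G := G) (z i) (z j) := by
  by_contra! h
  have hinj : Function.Injective fun i => Quotient.mk (orbitRel G (α × α)) (z i) := by
    intro i j hij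
    by_contra hne
    obtain ⟨g, hg⟩ := Quotient.exact hij
    exact h j i (Ne.symm hne) ⟨g, hg⟩
  have := Nat.card_le_card_of_injective _ hinj
  rw [h3, Nat.card_fin] at this
  omega

include h3 in
/-- A pair is related to one of two unrelated pairs. -/
theorem rel_or {a b c d u v : α} (hab : a ≠ b) (hcd : c ≠ d) (huv : u ≠ v)
    (hn : ¬ Rel (G := G) (a, b) (c, d)) :
    Rel (G := G) (a, b) (u, v) ∨ Rel (G := G) (c, d) (u, v) := by
  by_contra! h
  obtain ⟨i, j, hij, hr⟩ := exists_rel_of_four (G := G) h3 ![(a, a), (a, b), (c, d), (u, v)]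
  have key : ∀ {x y : α}, x ≠ y → ¬ Rel (G := G) (a, a) (x, y) := fun {x y} hxy hr => by
    obtain ⟨g, hg⟩ := hr
    exact hxy ((congrArg Prod.fst hg).symm.trans (congrArg Prod.snd hg))
  fin_cases i <;> fin_cases j <;> first
    | exact hij rfl
    | exact key hab hr
    | exact key hcd hr
    | exact key huv hr
    | exact key hab (rel_symm hr)
    | exact key hcd (rel_symm hr)
    | exact key huv (rel_symm hr)
    | exact hn hr
    | exact hn (rel_symm hr)
    | exact h.1 hr
    | exact h.1 (rel_symm hr)
    | exact h.2 hr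
    | exact h.2 (rel_symm hr)

include H h3 in
/-- The orbitals are self paired. -/
theorem Hyp.exists_swap (a b : α) : ∃ g : G, g • a = b ∧ g • b = a := by
  classical
  haveI := H.transitive
  by_cases hab : a = b
  · subst hab
    exact ⟨1, one_smul _ _, one_smul _ _⟩
  suffices h : Rel (G := G) (a, b) (b, a) by
    obtain ⟨g, hg⟩ := h
    exact ⟨g, congrArg Prod.fst hg, congrArg Prod.snd hg⟩
  by_contra hn
  set A := (Finset.univ : Finset (α × α)).filter fun z => Rel (G := G) (a, b) z with hA
  set B := (Finset.univ : Finset (α × α)).filter fun z => Rel (G := G) (b, a) z with hB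
  have hAB : A.card = B.card := by
    refine Finset.card_bij' (fun z _ => z.swap) (fun z _ => z.swap) (fun z hz => ?_) (fun z hz => ?_)
      (fun z _ => Prod.swap_swap z) fun z _ => Prod.swap_swap z
    · obtain ⟨c, d⟩ := z
      exact Finset.mem_filter.2 ⟨Finset.mem_univ _, rel_swap (Finset.mem_filter.1 hz).2⟩
    · obtain ⟨c, d⟩ := z
      exact Finset.mem_filter.2 ⟨Finset.mem_univ _, rel_swap (Finset.mem_filter.1 hz).2⟩
  have hunion : A ∪ B = (Finset.univ : Finset α).offDiag := by
    ext ⟨c, d⟩
    simp only [hA, hB, Finset.mem_union, Finset.mem_filter, Finset.mem_univ, true_and,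
      Finset.mem_offDiag]
    refine ⟨fun h => h.elim (fun h => rel_ne h hab) fun h => rel_ne h (Ne.symm hab), fun hcd =>
      rel_or h3 hab (Ne.symm hab) hcd hn⟩
  have hdisj : Disjoint A B := Finset.disjoint_left.2 fun z hz hz' =>
    hn (rel_trans (Finset.mem_filter.1 hz).2 (rel_symm (Finset.mem_filter.1 hz').2))
  have h1 := congrArg Finset.card hunion
  rw [Finset.card_union_of_disjoint hdisj, Finset.offDiag_card, Finset.card_univ, H.hα, ← hAB] at h1
  have horb : A.card = (stabilizer G (a, b)).index := by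
    rw [index_stabilizer, ← Set.ncard_coe_finset]
    congr 1
    ext z
    rw [Finset.mem_coe, hA, Finset.mem_filter]
    simp [Rel, mem_orbit_iff]
  have hle : stabilizer G (a, b) ≤ stabilizer G a := fun g hg =>
    mem_stabilizer_iff.2 (congrArg Prod.fst (mem_stabilizer_iff.1 hg))
  obtain ⟨k, hk⟩ : 2 * p ∣ A.card := by
    rw [horb, ← Subgroup.relIndex_mul_index hle, index_stabilizer_of_transitive,
      Nat.card_eq_fintype_card, H.hα]
    exact dvd_mul_left _ _
  rw [hk, ← Nat.mul_sub_one, ← mul_add] at h1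
  have h2 := Nat.eq_of_mul_eq_mul_left (by have := H.hp; omega) h1
  have := H.hp
  omega

include H h3 in
theorem Hyp.sum_fix_sq :
    ∑ g : G, fixCount α (g * g) = ∑ g : G, fixCount α g * fixCount α g := by
  classical
  have e1 : ∀ g : G, fixCount α (g * g) =
      ((Finset.univ : Finset (α × α)).filter fun z => g • z.1 = z.2 ∧ g • z.2 = z.1).card := by
    intro g
    rw [fixCount, ← Set.ncard_coe_finset, ← Nat.card_coe_set_eq]
    refine Nat.card_congr
      { toFun := fun x => ⟨(x.1, g • x.1), ?_⟩
        invFun := fun z => ⟨z.1.1, ?_⟩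
        left_inv := fun x => rfl
        right_inv := fun z => Subtype.ext (Prod.ext rfl ?_) }
    · have hx : (g * g) • x.1 = x.1 := x.2
      simp [← mul_smul, hx]
    · have hz := z.2
      simp only [Finset.coe_filter, Finset.mem_univ, true_and, Set.mem_ofPred_eq] at hz
      show (g * g) • z.1.1 = z.1.1
      rw [mul_smul, hz.1, hz.2]
    · have hz := z.2
      simp only [Finset.coe_filter, Finset.mem_univ, true_and, Set.mem_ofPred_eq] at hz
      exact hz.1
  have e2 : ∀ g : G, fixCount α g * fixCount α g =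
      ((Finset.univ : Finset (α × α)).filter fun z => g • z.1 = z.1 ∧ g • z.2 = z.2).card := by
    intro g
    have hf : fixCount α g = ((Finset.univ : Finset α).filter fun x => g • x = x).card := by
      rw [fixCount, ← Set.ncard_coe_finset, Nat.card_coe_set_eq]
      congr 1
      ext x
      simp
    rw [hf, ← Finset.card_product]
    congr 1
    ext z
    simp
  simp only [e1, e2, Finset.card_filter]
  rw [Finset.sum_comm, Finset.sum_comm (s := (Finset.univ : Finset G))]
  refine Finset.sum_congr rfl fun z _ => ?_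
  obtain ⟨s, hs1, hs2⟩ := H.exists_swap h3 z.1 z.2
  rw [← Equiv.sum_comp (Equiv.mulLeft s)]
  refine Finset.sum_congr rfl fun g _ => ?_
  refine if_congr ?_ rfl rfl
  show (s * g) • z.1 = z.2 ∧ (s * g) • z.2 = z.1 ↔ _
  constructor
  · rintro ⟨h1, h2⟩
    rw [mul_smul] at h1 h2
    exact ⟨smul_left_cancel s (h1.trans hs1.symm), smul_left_cancel s (h2.trans hs2.symm)⟩
  · rintro ⟨h1, h2⟩
    rw [mul_smul, mul_smul, h1, h2]
    exact ⟨hs1, hs2⟩

include H h3 in
/-- A point stabiliser fixes no other point. -/
theorem Hyp.exists_moved (a b : α) (hab : a ≠ b) : ∃ g : G, g • a = a ∧ g • b ≠ b := by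
  classical
  haveI := H.transitive
  haveI := H.prim
  haveI := H.nontrivial
  by_contra! h
  have hle : stabilizer G a ≤ stabilizer G b := fun g hg =>
    mem_stabilizer_iff.2 (h g (mem_stabilizer_iff.1 hg))
  have hcard : Nat.card (stabilizer G a) = Nat.card (stabilizer G b) :=
    (H.card_stabilizer_eq a).trans (H.card_stabilizer_eq b).symm
  have heq : stabilizer G a = stabilizer G b := Subgroup.eq_of_le_of_card_ge hle hcard.ge
  obtain ⟨s, hs⟩ := exists_smul_eq G a b
  have hmap : ∀ g, g ∈ stabilizer G a ↔ s * g * s⁻¹ ∈ stabilizer G a := fun g => by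
    rw [heq]
    conv_lhs => rw [← heq]
    simp only [mem_stabilizer_iff, mul_smul]
    rw [← hs, inv_smul_smul, smul_left_cancel_iff]
  have hsN : s ∈ Subgroup.normalizer (stabilizer G a : Set G) :=
    Subgroup.mem_normalizer_iff.2 fun g => hmap g
  have hmax := IsPreprimitive.isCoatom_stabilizer_of_isPreprimitive (G := G) a
  have htop : Subgroup.normalizer (stabilizer G a : Set G) = ⊤ := by
    refine hmax.2 _ (lt_of_le_of_ne Subgroup.le_normalizer fun e => ?_)
    rw [← e, mem_stabilizer_iff, hs] at hsN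
    exact hab hsN.symm
  haveI : (stabilizer G a).Normal := Subgroup.normalizer_eq_top_iff.1 htop
  have h1 := H.stabilizer_ne_bot a
  rw [H.eq_bot_of_regular (H.not_dvd_stabilizer a), Subgroup.card_bot] at h1
  omega

end CfsgLib.PermPrime.TwoP
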