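import Cfsg.Agent.Lib.PermPrime.TwoP.Basic
import Cfsg.Agent.Lib.PermPrime.SelfCentralizing
import Cfsg.Agent.Lib.PermPrime.Orbits
import Cfsg.Agent.Lib.Characters.PermTwo
import Cfsg.Agent.Lib.Characters.LinearTwist

/-!
# The permutation character in degree `2p`
-/

set_option autoImplicit false
set_option linter.style.haveILetI false
set_option linter.unusedSectionVars false

noncomputable section

namespace CfsgLib.PermPrime.TwoP

open Cfsg CfsgLib.Characters MulAction
open scoped ComplexConjugate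

universe u v

variable {p : ℕ} [hp : Fact p.Prime] {G : Type u} [Group G] [Fintype G] {α : Type v}
  [MulAction G α] [Fintype α] (H : Hyp p G α)

theorem Hyp.fix_singular (H : Hyp p G α) {g : G} (hg : p ∣ orderOf g) : fixCount α g = 0 := by
  rw [fixCount, Finite.card_eq_zero_iff]
  exact ⟨fun a => H.regular_of_fix a.2 hg⟩

theorem Hyp.fix_one (H : Hyp p G α) : fixCount α (1 : G) = 2 * p := by
  rw [fixCount, fixedBy_one_eq_univ, Nat.card_coe_set_eq, Set.ncard_univ, Nat.card_eq_fintype_card,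
    H.hα]

include H

theorem Hyp.exists_partner' : Nonempty (Partner p G) := by
  obtain ⟨P⟩ : Nonempty (Sylow p G) := inferInstance
  exact CfsgLib.PermPrime.exists_partner H.hp P (H.card_sylow P) (H.centralizer_eq P)
    (H.card_normalizer P)

theorem Hyp.classInner_fix_one :
    classInner (fun g : G => (fixCount α g : ℂ)) (principalIrr G : G → ℂ) = 1 := by
  haveI := H.transitive
  haveI := H.nontrivial
  have h1 : ∑ g : G, fixCount α g = 1 * Nat.card G :=
    sum_fix_of_label (G := G) (β := α) (n := 1) (fun _ => 0) (fun _ _ => rfl)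
      (fun i => ⟨Classical.arbitrary α, (Subsingleton.elim _ _)⟩) fun x y _ => exists_smul_eq G x y
  rw [classInner, inv_mul_eq_iff_eq_mul₀ (Nat.cast_ne_zero.2 Nat.card_pos.ne'), mul_one]
  simp only [principalIrr, map_one, mul_one]
  rw [← Nat.cast_sum, h1, one_mul]

theorem Hyp.linear_eq_principal (ψ : IrrCharacter G) (h1 : charDegree (ψ : G → ℂ) = 1)
    {g : G} (hg : g ≠ 1) (hv : (ψ : G → ℂ) g = 1) : ψ = principalIrr G := by
  obtain ⟨l, hl'⟩ := LinearTwist.exists_hom_of_charDegree_one (irr_isCharacter ψ) h1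
  have hl : ∀ x, (ψ : G → ℂ) x = (l x : ℂ) := fun x => congrFun hl' x
  have hker : l.ker = ⊤ := by
    refine H.eq_top_of_normal _ fun hb => hg ?_
    have : g ∈ l.ker := MonoidHom.mem_ker.2 (Units.ext (by rw [← hl, hv, Units.val_one]))
    rwa [hb, Subgroup.mem_bot] at this
  refine Subtype.ext (funext fun x => ?_)
  have hx : x ∈ l.ker := hker ▸ Subgroup.mem_top x
  show (ψ : G → ℂ) x = 1
  rw [hl, MonoidHom.mem_ker.1 hx, Units.val_one]

/-- The data used in the classification. -/
structure Data (p : ℕ) (G : Type u) [Group G] [Fintype G] (α : Type v) [MulAction G α]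
    [Fintype α] where
  χ : IrrCharacter G
  ψ : IrrCharacter G
  Y : Finset (IrrCharacter G)
  χ_deg : charDegree (χ : G → ℂ) = p - 1
  χ_sing : ∀ g : G, p ∣ orderOf g → (χ : G → ℂ) g = -1
  χ_notMem : χ ∉ Y
  card_Y : Y.card = (p - 1) / 2
  rel : ∀ θ ∈ Y, ∀ g : G, ¬ p ∣ orderOf g → (θ : G → ℂ) g = (χ : G → ℂ) g - 1
  unique : ∀ ξ : IrrCharacter G, charDegree (ξ : G → ℂ) = p - 1 →
    ∀ g : G, p ∣ orderOf g → (ξ : G → ℂ) g ≠ 0 → ξ = χ
  perm : ∀ g : G, (fixCount α g : ℂ) = 1 + (χ : G → ℂ) g + (ψ : G → ℂ) g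
  inner_χ : classInner (fun g : G => (fixCount α g : ℂ)) (χ : G → ℂ) = 1
  orbits : Nat.card (Quotient (orbitRel G (α × α))) = 3

theorem Hyp.exists_data (hnot2 : ¬ IsMultiplyPretransitive G α 2) :
    Nonempty (Data p G α) := by
  classical
  obtain ⟨D⟩ := H.exists_partner'
  obtain ⟨P⟩ : Nonempty (Sylow p G) := inferInstance
  set π : G → ℂ := fun g => (fixCount α g : ℂ) with hπ
  have hπc : IsCharacter G π := isCharacter_fixCount
  choose m hm using fun φ : IrrCharacter G => classInner_char_nat hπc (irr_isCharacter φ)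
  have hexp : ∀ g, π g = ∑ φ : IrrCharacter G, (m φ : ℂ) * (φ : G → ℂ) g := fun g => by
    have h := congrFun (classFunction_eq_sum (isClassFunction_of_isCharacter hπc)) g
    simp only [Finset.sum_apply, Pi.smul_apply, smul_eq_mul, hm] at h
    exact h
  have hm1 : m (principalIrr G) = 1 := by
    have h := H.classInner_fix_one
    rw [hm] at h
    exact_mod_cast h
  have hrel : ∀ θ ∈ D.Y, (D.ε : ℤ) * m θ = 1 + D.εχ * m D.χ := by
    intro θ hθ
    refine Int.cast_injective (α := ℂ) ?_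
    push_cast
    rw [← hm θ, ← hm D.χ, ← H.classInner_fix_one]
    simp only [classInner, Finset.mul_sum, ← Finset.sum_add_distrib]
    refine Finset.sum_congr rfl fun g _ => ?_
    by_cases hg : p ∣ orderOf g
    · simp [hπ, H.fix_singular hg]
    · have h := congrArg conj (D.rel θ hθ g hg)
      simp only [map_mul, map_add, map_one, map_intCast] at h
      simp only [principalIrr, map_one, mul_one]
      linear_combination ((Nat.card G : ℂ)⁻¹ * (fixCount α g : ℂ)) * h
  have h1reg : ¬ p ∣ orderOf (1 : G) := by rw [orderOf_one]; exact hp.out.not_dvd_one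
  obtain ⟨x, hx⟩ := exists_prime_orderOf_dvd_card' (G := G) p ((dvd_mul_left p 2).trans H.dvd_card)
  have hxs : p ∣ orderOf x := dvd_of_eq hx.symm
  have hx1 : x ≠ 1 := fun h => hp.out.ne_one (by rw [← hx, h, orderOf_one])
  -- the degrees
  set d := charDegree (D.χ : G → ℂ) with hd
  have hdpos : 0 < d := by
    obtain ⟨k, hk, hk'⟩ := irr_exists_degree D.χ.2
    rw [hd, charDegree, hk', Complex.natCast_re, Nat.floor_natCast]
    exact hk
  have hdY : ∀ θ ∈ D.Y, (D.ε : ℤ) * charDegree (θ : G → ℂ) = 1 + D.εχ * d := by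
    intro θ hθ
    have h := D.rel θ hθ 1 h1reg
    rw [CharCorr.irr_one_eq_charDegree, CharCorr.irr_one_eq_charDegree] at h
    exact_mod_cast h
  have hYpos : ∀ θ : IrrCharacter G, 0 < charDegree (θ : G → ℂ) := fun θ => by
    obtain ⟨k, hk, hk'⟩ := irr_exists_degree θ.2
    rw [charDegree, hk', Complex.natCast_re, Nat.floor_natCast]
    exact hk
  have htotal : 2 * p = ∑ φ : IrrCharacter G, m φ * charDegree (φ : G → ℂ) := by
    have h := hexp 1
    rw [hπ] at h
    simp only [H.fix_one, CharCorr.irr_one_eq_charDegree] at h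
    exact_mod_cast h
  set S := insert (principalIrr G) (insert D.χ D.Y) with hS
  have hsplit : 2 * p = 1 + (m D.χ * d + ∑ θ ∈ D.Y, m θ * charDegree (θ : G → ℂ)) +
      ∑ φ ∈ Finset.univ \ S, m φ * charDegree (φ : G → ℂ) := by
    rw [htotal, ← Finset.sum_sdiff (Finset.subset_univ S), add_comm, hS,
      Finset.sum_insert (by simp [Ne.symm D.χ_ne, D.principal_notMem]),
      Finset.sum_insert D.χ_notMem, hm1, show charDegree (principalIrr G : G → ℂ) = 1 by
        simp [charDegree, principalIrr]]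
  have hrest : ∀ φ ∈ Finset.univ \ S, p ∣ charDegree (φ : G → ℂ) := by
    intro φ hφ
    simp only [hS, Finset.mem_sdiff, Finset.mem_univ, true_and, Finset.mem_insert, not_or] at hφ
    exact dvd_degree P (H.card_sylow P) φ (D.vanish φ hφ.1 hφ.2.1 hφ.2.2)
  have hYne : D.Y.Nonempty := by
    rw [← Finset.card_pos, D.card_Y]
    have := H.hp
    omega
  obtain ⟨θ₀, hθ₀⟩ := hYne
  obtain ⟨t, ht⟩ := H.odd
  have hp5 := H.hp
  -- the sign is negative
  have hεχ : D.εχ = -1 := by
    refine D.εχ_sign.resolve_left fun he => ?_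
    have h0 := hdY θ₀ hθ₀
    have hdeg := D.deg
    rw [he] at h0 hdeg
    rw [← hd] at hdeg
    have hε : D.ε = 1 := D.ε_sign.resolve_right fun h => by
      rw [h] at h0
      have := hYpos θ₀
      omega
    have hd1 : d ≠ 1 := fun h => D.χ_ne (H.linear_eq_principal D.χ h hx1 (by
      rw [D.sing x hxs, he, Int.cast_one]))
    have hdp : p + 1 ≤ d := by
      obtain ⟨k, hk⟩ := Int.modEq_iff_dvd.1 hdeg
      have hk0 : k < 0 := by
        by_contra hk0
        have : (0 : ℤ) ≤ k := by omega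
        have : (0 : ℤ) ≤ (p : ℤ) * k := by positivity
        omega
      have hk1 : k ≤ -1 := by omega
      have : (p : ℤ) * k ≤ -(p : ℤ) := by nlinarith
      omega
    have hterm : ∀ θ ∈ D.Y, p + 2 ≤ m θ * charDegree (θ : G → ℂ) := by
      intro θ hθ
      have h1 := hrel θ hθ
      have h2 := hdY θ hθ
      rw [hε, he, one_mul, one_mul] at h1 h2
      have hm' : 1 ≤ m θ := by omega
      have hd' : p + 2 ≤ charDegree (θ : G → ℂ) := by omega
      exact le_trans hd' (Nat.le_mul_of_pos_left _ hm')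
    have hsum := Finset.card_nsmul_le_sum D.Y _ _ hterm
    rw [D.card_Y, smul_eq_mul] at hsum
    have : 2 * (p + 2) ≤ (p - 1) / 2 * (p + 2) := Nat.mul_le_mul_right _ (by omega)
    omega
  have hdp : p - 1 ≤ d := by
    have hdeg := D.deg
    rw [hεχ, ← hd] at hdeg
    obtain ⟨k, hk⟩ := Int.modEq_iff_dvd.1 hdeg
    have hk1 : k ≤ -1 := by
      by_contra hk0
      have : (0 : ℤ) ≤ (p : ℤ) * k := by
        have : (0 : ℤ) ≤ k := by omega
        positivity
      omega
    have : (p : ℤ) * k ≤ -(p : ℤ) := by nlinarith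
    omega
  have hε : D.ε = -1 := by
    refine D.ε_sign.resolve_left fun h => ?_
    have h0 := hdY θ₀ hθ₀
    rw [h, hεχ] at h0
    have := hYpos θ₀
    omega
  have hY0 : ∀ θ ∈ D.Y, m θ = 0 := by
    by_contra! hex
    obtain ⟨θ₁, hθ₁, hne⟩ := hex
    have hterm : ∀ θ ∈ D.Y, p - 2 ≤ m θ * charDegree (θ : G → ℂ) := by
      intro θ hθ
      have h1 := hrel θ hθ
      have h1' := hrel θ₁ hθ₁
      have h2 := hdY θ hθ
      rw [hε, hεχ] at h1 h1' h2
      have hm' : 1 ≤ m θ := by omega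
      have hd' : p - 2 ≤ charDegree (θ : G → ℂ) := by omega
      exact le_trans hd' (Nat.le_mul_of_pos_left _ hm')
    have hsum := Finset.card_nsmul_le_sum D.Y _ _ hterm
    rw [D.card_Y, smul_eq_mul] at hsum
    have : 2 * (p - 2) ≤ (p - 1) / 2 * (p - 2) := Nat.mul_le_mul_right _ (by omega)
    have h1' := hrel θ₁ hθ₁
    rw [hε, hεχ] at h1'
    have hmχ : 2 ≤ m D.χ := by omega
    have : 2 * (p - 1) ≤ m D.χ * d := Nat.mul_le_mul hmχ hdp
    omega
  have hmχ : m D.χ = 1 := by
    have h1 := hrel θ₀ hθ₀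
    rw [hY0 θ₀ hθ₀, hεχ] at h1
    push_cast at h1
    omega
  rw [Finset.sum_eq_zero (s := D.Y) (fun θ hθ => by rw [hY0 θ hθ, zero_mul]), hmχ, one_mul, add_zero]
    at hsplit
  obtain ⟨q, hq⟩ : p ∣ ∑ φ ∈ Finset.univ \ S, m φ * charDegree (φ : G → ℂ) :=
    Finset.dvd_sum fun φ hφ => dvd_mul_of_dvd_right (hrest φ hφ) _
  -- the number of orbits on pairs
  have horb : (Nat.card (Quotient (orbitRel G (α × α))) : ℂ) =
      ((∑ φ : IrrCharacter G, m φ * m φ : ℕ) : ℂ) := by
    have h := classInner_eq_sum_mul (φ := π) (isClassFunction_of_isCharacter hπc)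
    simp only [hm, Complex.conj_natCast] at h
    push_cast
    rw [← h, classInner, eq_inv_mul_iff_mul_eq₀ (Nat.cast_ne_zero.2 Nat.card_pos.ne'), mul_comm,
      ← PermTwo.sum_fixedBy]
    refine Finset.sum_congr rfl fun g _ => ?_
    rw [PermTwo.card_fixedBy_prod, hπ, Nat.cast_mul, map_natCast]
    rfl
  have horb' : Nat.card (Quotient (orbitRel G (α × α))) = ∑ φ : IrrCharacter G, m φ * m φ := by
    exact_mod_cast horb
  rw [← Finset.sum_sdiff (Finset.subset_univ S), hS,
    Finset.sum_insert (by simp [Ne.symm D.χ_ne, D.principal_notMem]),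
    Finset.sum_insert D.χ_notMem, hm1, hmχ,
    Finset.sum_eq_zero (s := D.Y) (fun θ hθ => by rw [hY0 θ hθ, zero_mul])] at horb'
  -- the remaining part is not empty
  obtain ⟨φ₀, hφ₀, hmφ₀⟩ : ∃ φ ∈ Finset.univ \ S, m φ ≠ 0 := by
    by_contra! hall
    haveI := H.transitive
    refine hnot2 ((PermTwo.card_orbits_pair_eq_two_iff (by
      rw [Nat.card_eq_fintype_card, H.hα]; omega)).1 ?_)
    rw [horb']
    simp only [← hS]
    rw [Finset.sum_eq_zero fun φ hφ => by rw [hall φ hφ, zero_mul]]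
    norm_num
  have hge : p ≤ m φ₀ * charDegree (φ₀ : G → ℂ) :=
    le_trans (Nat.le_of_dvd (hYpos φ₀) (hrest φ₀ hφ₀))
      (Nat.le_mul_of_pos_left _ (Nat.pos_of_ne_zero hmφ₀))
  have hle := Finset.single_le_sum (f := fun φ => m φ * charDegree (φ : G → ℂ))
    (fun φ _ => Nat.zero_le _) hφ₀
  have hdval : d = p - 1 := by
    obtain ⟨k, hk⟩ := Int.modEq_iff_dvd.1 D.deg
    rw [hεχ, ← hd] at hk
    have hk' : k = -1 := by
      have h1 : (d : ℤ) ≤ (p : ℤ) - 1 + 0 := by omega
      have h2 : (p : ℤ) - 1 ≤ (d : ℤ) := by omega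
      nlinarith
    rw [hk'] at hk
    omega
  have hothers : ∀ φ ∈ (Finset.univ \ S).erase φ₀, m φ = 0 := by
    intro φ hφ
    by_contra hne
    have h1 : p ≤ m φ * charDegree (φ : G → ℂ) :=
      le_trans (Nat.le_of_dvd (hYpos φ) (hrest φ (Finset.mem_of_mem_erase hφ)))
        (Nat.le_mul_of_pos_left _ (Nat.pos_of_ne_zero hne))
    have h2 := Finset.single_le_sum (f := fun φ => m φ * charDegree (φ : G → ℂ))
      (fun φ _ => Nat.zero_le _) hφ
    rw [← Finset.add_sum_erase _ _ hφ₀] at hsplit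
    omega
  have hm0 : m φ₀ = 1 := by
    rw [← Finset.add_sum_erase _ _ hφ₀,
      Finset.sum_eq_zero fun φ hφ => by rw [hothers φ hφ, zero_mul]] at hsplit
    obtain ⟨r, hr⟩ := hrest φ₀ hφ₀
    rw [hr] at hsplit
    have h1 : p * (m φ₀ * r) = p * 1 := by
      rw [← mul_assoc, mul_comm p (m φ₀), mul_assoc]
      omega
    exact Nat.eq_one_of_mul_eq_one_right (Nat.eq_of_mul_eq_mul_left hp.out.pos h1)
  refine ⟨{
    χ := D.χ
    ψ := φ₀
    Y := D.Y
    χ_deg := hdval
    χ_sing := fun g hg => by rw [D.sing g hg, hεχ]; norm_num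
    χ_notMem := D.χ_notMem
    card_Y := D.card_Y
    rel := fun θ hθ g hg => ?_
    unique := fun ξ hξ g hg hv => ?_
    perm := fun g => ?_
    inner_χ := by rw [hm, hmχ, Nat.cast_one]
    orbits := ?_ }⟩
  · have h := D.rel θ hθ g hg
    rw [hε, hεχ] at h
    push_cast at h
    linear_combination -h
  · by_contra hne
    by_cases h1 : ξ = principalIrr G
    · rw [h1, show charDegree (principalIrr G : G → ℂ) = 1 by simp [charDegree, principalIrr]] at hξ
      omega
    by_cases h2 : ξ ∈ D.Y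
    · have h3 := hdY ξ h2
      rw [hε, hεχ, hξ, hdval] at h3
      omega
    exact hv (D.vanish ξ h1 hne h2 g hg)
  · show π g = _
    rw [hexp g, ← Finset.sum_sdiff (Finset.subset_univ S), ← Finset.add_sum_erase _ _ hφ₀,
      Finset.sum_eq_zero fun φ hφ => by rw [hothers φ hφ, Nat.cast_zero, zero_mul], hS,
      Finset.sum_insert (by simp [Ne.symm D.χ_ne, D.principal_notMem]),
      Finset.sum_insert D.χ_notMem, hm1, hmχ, hm0,
      Finset.sum_eq_zero (s := D.Y) (fun θ hθ => by rw [hY0 θ hθ, Nat.cast_zero, zero_mul])]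
    simp [principalIrr]
    ring
  · rw [horb']
    simp only [← hS]
    rw [← Finset.add_sum_erase _ _ hφ₀,
      Finset.sum_eq_zero fun φ hφ => by rw [hothers φ hφ, zero_mul], hm0]
    norm_num

end CfsgLib.PermPrime.TwoP
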