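import Cfsg.Agent.Lib.PermPrime.TwoP.Values

/-!
# There is no example with `p ≥ 7`
-/

set_option autoImplicit false
set_option linter.style.haveILetI false
set_option linter.unusedSectionVars false

noncomputable section

namespace CfsgLib.PermPrime.TwoP

open Cfsg CfsgLib.Characters MulAction
open scoped ComplexConjugate

universe u v

variable {p : ℕ} [hp : Fact p.Prime] {G : Type u} [Group G] [Fintype G] {α : Type v}
  [MulAction G α] [Fintype α] (H : Hyp p G α) (D : Data p G α) (h7 : 7 ≤ p)

include H D h7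

theorem Hyp.ne_one_of_sing {g : G} (hg : p ∣ orderOf g) : g ≠ 1 := by
  rintro rfl
  rw [orderOf_one] at hg
  exact hp.out.not_dvd_one hg

/-- The order of the group. -/
theorem Hyp.two_mul_sylow : 2 * Nat.card (Sylow p G) = (p - 1) * (p - 2) := by
  classical
  obtain ⟨P⟩ : Nonempty (Sylow p G) := inferInstance
  obtain ⟨a⟩ : Nonempty α := H.nontrivial.to_nonempty
  have hchi : ∀ g : G, conj ((D.χ : G → ℂ) g) = (D.χ : G → ℂ) g := fun g => by
    rw [H.chi_eq D g, map_intCast]
  have hG : (Nat.card G : ℂ) ≠ 0 := Nat.cast_ne_zero.2 Nat.card_pos.ne'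
  have h1 : ∑ g : G, H.val D g = 0 := by
    have hne : D.χ ≠ principalIrr G := fun h => by
      have := D.χ_deg
      rw [h, show charDegree (principalIrr G : G → ℂ) = 1 by simp [charDegree, principalIrr]] at this
      omega
    have h := classInner_irr D.χ (principalIrr G)
    rw [if_neg hne, classInner, mul_eq_zero] at h
    have h' := h.resolve_left (inv_ne_zero hG)
    simp only [principalIrr, map_one, mul_one, H.chi_eq D] at h'
    exact_mod_cast h'
  have h2 : ∑ g : G, H.val D g * H.val D g = (Nat.card G : ℤ) := by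
    have h := classInner_irr D.χ D.χ
    rw [if_pos rfl, classInner, inv_mul_eq_iff_eq_mul₀ hG, mul_one] at h
    simp only [H.chi_eq D, map_intCast] at h
    exact_mod_cast h
  have h3 : ∀ g : G, H.val D g * H.val D g - H.val D g =
      (if g = 1 then ((p : ℤ) - 1) * ((p : ℤ) - 2) else 0) + if p ∣ orderOf g then 2 else 0 := by
    intro g
    by_cases hg : p ∣ orderOf g
    · rw [if_neg (H.ne_one_of_sing D h7 hg), if_pos hg, H.val_sing D hg]
      norm_num
    · rw [if_neg hg, add_zero]
      by_cases h1 : g = 1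
      · rw [if_pos h1, h1, H.val_one D]
        ring
      · rw [if_neg h1]
        rcases H.val_cases D h7 hg h1 with ⟨h, -⟩ | ⟨h, -⟩ <;> rw [h] <;> ring
  have h4 := Finset.sum_congr (s₁ := (Finset.univ : Finset G)) rfl fun g _ => h3 g
  rw [Finset.sum_sub_distrib, h1, h2, Finset.sum_add_distrib, Finset.sum_ite_eq',
    if_pos (Finset.mem_univ _), ← Finset.sum_filter, Finset.sum_const,
    card_singular P (H.card_sylow P) (H.centralizer_eq P), H.card_eq a, H.card_stabilizer_eq a,
    nsmul_eq_mul] at h4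
  push_cast [Nat.cast_sub hp.out.one_le] at h4
  have h5 : ((2 * Nat.card (Sylow p G) : ℕ) : ℤ) = (((p - 1) * (p - 2) : ℕ) : ℤ) := by
    push_cast [Nat.cast_sub hp.out.one_le, Nat.cast_sub (show 2 ≤ p by omega)]
    linarith
  exact_mod_cast h5

/-- A subgroup of order prime to `p`. -/
theorem Hyp.key (K : Subgroup G) (hK : ∀ k ∈ K, ¬ p ∣ orderOf k) :
    ∃ z : ℤ, ∑ᶠ k ∈ (K : Set G), H.val D k = (Nat.card K : ℤ) * z ∧
      ∑ᶠ k ∈ (K : Set G), H.val D k =
        (p : ℤ) - 2 + (Nat.card K : ℤ) - (Nat.card {k : G // k ∈ K ∧ orderOf k = 2} : ℤ) := by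
  classical
  obtain ⟨n, hn⟩ := classInner_char_nat
    (Clifford.isCharacter_subtype (irr_isCharacter D.χ) K) (isCharacter_one (G := K))
  refine ⟨n, ?_, ?_⟩
  · have hK0 : (Nat.card K : ℂ) ≠ 0 := Nat.cast_ne_zero.2 Nat.card_pos.ne'
    rw [classInner, inv_mul_eq_iff_eq_mul₀ hK0] at hn
    simp only [Pi.one_apply, map_one, mul_one, H.chi_eq D] at hn
    rw [finsum_mem_eq_toFinset_sum, Finset.sum_subtype _ (p := fun k => k ∈ K) (fun k => by simp)]
    exact_mod_cast hn
  · have h3 : ∀ k ∈ K, H.val D k =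
        (if k = 1 then (p : ℤ) - 2 else 0) + 1 - if orderOf k = 2 then 1 else 0 := by
      intro k hk
      by_cases h1 : k = 1
      · subst h1
        rw [H.val_one D, if_pos rfl, if_neg (by rw [orderOf_one]; omega)]
        ring
      · rw [if_neg h1]
        rcases H.val_cases D h7 (hK k hk) h1 with ⟨h, h'⟩ | ⟨h, h'⟩
        · rw [h, if_pos (orderOf_eq_prime (by rw [sq, h']) h1)]
          ring
        · rw [h, if_neg fun e => h' (by rw [← sq, ← e, pow_orderOf_eq_one])]
          ring
    rw [finsum_mem_eq_toFinset_sum,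
      Finset.sum_congr rfl fun k hk => h3 k (by simpa using hk), Finset.sum_sub_distrib,
      Finset.sum_add_distrib, Finset.sum_ite_eq', if_pos (by simp), Finset.sum_const,
      Finset.sum_boole, nsmul_one, Nat.card_eq_fintype_card, Nat.card_eq_fintype_card,
      Set.toFinset_card, Fintype.card_subtype]
    refine congrArg₂ (fun a b : ℕ => (p : ℤ) - 2 + (a : ℤ) - (b : ℤ)) ?_ ?_
    · exact ((Fintype.card_subtype _).symm).trans (Fintype.card_congr (Equiv.refl _))
    · exact (Fintype.card_of_subtype _ fun k => by simp).symm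

theorem Hyp.dvd_key (K : Subgroup G) (hK : ∀ k ∈ K, ¬ p ∣ orderOf k) :
    (Nat.card K : ℤ) ∣ (p : ℤ) - 2 - (Nat.card {k : G // k ∈ K ∧ orderOf k = 2} : ℤ) := by
  obtain ⟨z, h1, h2⟩ := H.key D h7 K hK
  exact ⟨z - 1, by rw [h1] at h2; linarith⟩

theorem Hyp.regular_of_even {g : G} (hg : 2 ∣ orderOf g) : ¬ p ∣ orderOf g := by
  intro hd
  obtain ⟨P⟩ : Nonempty (Sylow p G) := inferInstance
  obtain ⟨c, hc, hc1⟩ := exists_conj_mem P (H.card_sylow P) (H.centralizer_eq P) hd
  have h := dvd_orderOf_of_mem P (H.card_sylow P) hc hc1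
  rw [← MulAut.conj_apply, MulEquiv.orderOf_eq] at h
  rw [h] at hg
  have := (Nat.prime_dvd_prime_iff_eq Nat.prime_two hp.out).1 hg
  omega

/-- Elements of even order. -/
theorem Hyp.four_dvd {g : G} (hg : 2 ∣ orderOf g) (hg2 : orderOf g ≠ 2) :
    4 ∣ orderOf g ∧ (4 : ℤ) ∣ (p : ℤ) - 3 := by
  have hreg : ∀ k ∈ Subgroup.zpowers g, ¬ p ∣ orderOf k := fun k hk hd =>
    H.regular_of_even D h7 hg (hd.trans (by
      have := Subgroup.orderOf_dvd_natCard _ hk
      rwa [Nat.card_zpowers] at this))
  obtain ⟨m, hm⟩ := hg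
  have hm0 : 0 < m := by
    rcases Nat.eq_zero_or_pos m with h | h
    · rw [h, mul_zero] at hm
      exact absurd hm (orderOf_pos g).ne'
    · exact h
  -- one involution in the cyclic group
  have hj : Nat.card {k : G // k ∈ Subgroup.zpowers g ∧ orderOf k = 2} = 1 := by
    rw [Nat.card_eq_one_iff_unique]
    refine ⟨⟨fun x y => Subtype.ext ?_⟩, ⟨⟨g ^ m, Subgroup.pow_mem _ (Subgroup.mem_zpowers g) m, ?_⟩⟩⟩
    · suffices key : ∀ k, k ∈ Subgroup.zpowers g → orderOf k = 2 → k = g ^ m by
        rw [key _ x.2.1 x.2.2, key _ y.2.1 y.2.2]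
      intro k hk hk2
      obtain ⟨i, rfl⟩ := mem_powers_iff_mem_zpowers.2 hk
      have h2 : g ^ (i * 2) = 1 := by rw [pow_mul, ← hk2]; exact pow_orderOf_eq_one _
      rw [← orderOf_dvd_iff_pow_eq_one, hm, mul_comm i 2] at h2
      obtain ⟨c, rfl⟩ := Nat.dvd_of_mul_dvd_mul_left two_pos h2
      show g ^ (m * c) = g ^ m
      rcases Nat.even_or_odd' c with ⟨d, rfl | rfl⟩
      · exfalso
        have : g ^ (m * (2 * d)) = 1 := by
          rw [show m * (2 * d) = 2 * m * d by ring, pow_mul, ← hm, pow_orderOf_eq_one, one_pow]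
        change orderOf (g ^ (m * (2 * d))) = 2 at hk2
        rw [this, orderOf_one] at hk2
        omega
      · rw [show m * (2 * d + 1) = 2 * m * d + m by ring, pow_add, pow_mul, ← hm, pow_orderOf_eq_one,
          one_pow, one_mul]
    · rw [orderOf_pow_of_dvd hm0.ne' ⟨2, by rw [hm, mul_comm]⟩, hm, Nat.mul_div_cancel _ hm0]
  have h1 := H.dvd_key D h7 _ hreg
  rw [hj, Nat.card_zpowers, hm] at h1
  push_cast at h1
  rcases Nat.even_or_odd' m with ⟨m', rfl | rfl⟩
  · refine ⟨⟨m', by rw [hm]; ring⟩, ?_⟩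
    push_cast at h1
    obtain ⟨c, hc⟩ := h1
    exact ⟨(m' : ℤ) * c, by linarith⟩
  · exfalso
    -- the subgroup of odd order
    have ho : orderOf (g ^ 2) = 2 * m' + 1 := by
      rw [orderOf_pow_of_dvd two_ne_zero ⟨_, hm⟩, hm]
      omega
    have hreg2 : ∀ k ∈ Subgroup.zpowers (g ^ 2), ¬ p ∣ orderOf k := fun k hk =>
      hreg k (Subgroup.zpowers_le.2 (Subgroup.pow_mem _ (Subgroup.mem_zpowers g) 2) hk)
    have hj2 : Nat.card {k : G // k ∈ Subgroup.zpowers (g ^ 2) ∧ orderOf k = 2} = 0 := by
      rw [Finite.card_eq_zero_iff]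
      refine ⟨fun x => ?_⟩
      have := Subgroup.orderOf_dvd_natCard _ x.2.1
      rw [x.2.2, Nat.card_zpowers, ho] at this
      omega
    have h2 := H.dvd_key D h7 _ hreg2
    rw [hj2, Nat.card_zpowers, ho, Nat.cast_zero, sub_zero] at h2
    push_cast at h1 h2
    have h3 : (2 * (m' : ℤ) + 1) ∣ 1 := by
      have h4 : (2 * (m' : ℤ) + 1) ∣ (p : ℤ) - 2 - 1 := (Dvd.intro_left 2 rfl).trans h1
      have := Int.dvd_sub h2 h4
      simpa using this
    have := Int.le_of_dvd one_pos h3
    refine hg2 ?_
    rw [hm]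
    omega

theorem Hyp.four_group {s u : G} (hs : orderOf s = 2) (hu : orderOf u = 2) (hsu : s * u = u * s)
    (hne : s ≠ u) : (4 : ℤ) ∣ (p : ℤ) - 5 := by
  classical
  have hs2 : s * s = 1 := by rw [← sq, ← hs, pow_orderOf_eq_one]
  have hu2 : u * u = 1 := by rw [← sq, ← hu, pow_orderOf_eq_one]
  have hs1 : s ≠ 1 := fun h => by rw [h, orderOf_one] at hs; omega
  have hu1 : u ≠ 1 := fun h => by rw [h, orderOf_one] at hu; omega
  have hsu1 : s * u ≠ 1 := fun h => hne (by rw [← mul_one s, ← hu2, ← mul_assoc, h, one_mul])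
  let K : Subgroup G :=
    { carrier := {1, s, u, s * u}
      one_mem' := Or.inl rfl
      inv_mem' := by
        intro x hx
        have hx2 : x * x = 1 := by
          rcases hx with rfl | rfl | rfl | rfl
          · exact mul_one 1
          · exact hs2
          · exact hu2
          · rw [mul_assoc, ← mul_assoc u, ← hsu, mul_assoc, hu2, mul_one, hs2]
        rwa [inv_eq_of_mul_eq_one_right hx2]
      mul_mem' := by
        intro x y hx hy
        have e1 : s * (s * u) = u := by rw [← mul_assoc, hs2, one_mul]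
        have e2 : u * (s * u) = s := by rw [hsu, ← mul_assoc, hu2, one_mul]
        have e3 : s * u * u = s := by rw [mul_assoc, hu2, mul_one]
        have e4 : s * u * s = u := by rw [hsu, mul_assoc, hs2, mul_one]
        have e5 : s * u * (s * u) = 1 := by rw [← mul_assoc, e4, hu2]
        have hyy : y = 1 ∨ y = s ∨ y = u ∨ y = s * u := hy
        rcases hx with rfl | rfl | rfl | rfl <;> rcases hyy with rfl | rfl | rfl | rfl <;>
          simp [hs2, hu2, e1, e2, e3, e4, e5, hsu.symm] }
  have hmem : ∀ k : G, k ∈ K ↔ k ∈ ({1, s, u, s * u} : Finset G) := fun k => by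
    show k ∈ ({1, s, u, s * u} : Set G) ↔ _
    simp
  have hord : ∀ k ∈ K, k ≠ 1 → orderOf k = 2 := by
    intro k hk hk1
    refine orderOf_eq_prime ?_ hk1
    rw [sq]
    rcases hk with rfl | rfl | rfl | rfl
    · exact mul_one 1
    · exact hs2
    · exact hu2
    · rw [mul_assoc, ← mul_assoc u, ← hsu, mul_assoc, hu2, mul_one, hs2]
  have hreg : ∀ k ∈ K, ¬ p ∣ orderOf k := by
    intro k hk
    by_cases hk1 : k = 1
    · rw [hk1, orderOf_one]; exact hp.out.not_dvd_one
    · rw [hord k hk hk1]
      intro h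
      have := Nat.le_of_dvd two_pos h
      omega
  have n1 : s ≠ s * u := fun h => hu1 (mul_left_cancel (a := s) ((mul_one s).trans h)).symm
  have n2 : u ≠ s * u := fun h => hs1 (mul_right_cancel (b := u) ((one_mul u).trans h)).symm
  have hc : ({1, s, u, s * u} : Finset G).card = 4 := by
    rw [Finset.card_insert_of_notMem (by simp [Ne.symm hs1, Ne.symm hu1, Ne.symm hsu1]),
      Finset.card_insert_of_notMem (by simp [hne, n1]), Finset.card_pair n2]
  have hK4 : Nat.card K = 4 := by
    rw [← hc, Nat.card_eq_fintype_card]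
    exact Fintype.card_of_subtype _ fun k => (hmem k).symm
  have hj : Nat.card {k : G // k ∈ K ∧ orderOf k = 2} = 3 := by
    have h3 : (({1, s, u, s * u} : Finset G).erase 1).card = 3 := by
      rw [Finset.card_erase_of_mem (by simp), hc]
    rw [← h3, Nat.card_eq_fintype_card]
    refine Fintype.card_of_subtype _ fun k => ?_
    rw [Finset.mem_erase, ← hmem]
    exact ⟨fun h => ⟨h.2, hord k h.2 h.1⟩, fun h => ⟨fun e => by
      rw [e, orderOf_one] at h; exact absurd h.2 (by omega), h.1⟩⟩
  have h := H.dvd_key D h7 K hreg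
  rw [hK4, hj] at h
  push_cast at h
  rwa [show (p : ℤ) - 2 - 3 = (p : ℤ) - 5 by ring] at h

/-- Non-conjugate involutions commute. -/
theorem Hyp.commute_of_not_conj {s t : G} (hs : orderOf s = 2) (ht : orderOf t = 2)
    (hn : ∀ c : G, c * s * c⁻¹ ≠ t) : s * t = t * s := by
  have hs2 : s * s = 1 := by rw [← sq, ← hs, pow_orderOf_eq_one]
  have ht2 : t * t = 1 := by rw [← sq, ← ht, pow_orderOf_eq_one]
  set g := s * t with hg
  have hconj : s * g * s⁻¹ = g⁻¹ := by
    rw [hg, mul_inv_rev, inv_eq_of_mul_eq_one_right hs2, inv_eq_of_mul_eq_one_right ht2,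
      ← mul_assoc s s t, hs2, one_mul]
  have heven : 2 ∣ orderOf g := by
    rcases Nat.even_or_odd (orderOf g) with h | h
    · exact even_iff_two_dvd.1 h
    exfalso
    obtain ⟨k, hk⟩ := h
    refine hn (g ^ k) ?_
    have h1 : s * g ^ k * s⁻¹ = (g ^ k)⁻¹ := by rw [← conj_pow, hconj, inv_pow]
    have h2 : g ^ (2 * k + 1) = 1 := by rw [← hk, pow_orderOf_eq_one]
    calc g ^ k * s * (g ^ k)⁻¹ = g ^ k * s * (s * g ^ k * s⁻¹) := by rw [h1]
      _ = g ^ k * (s * s) * g ^ k * s⁻¹ := by group
      _ = g ^ (2 * k) * s⁻¹ := by rw [hs2, mul_one, ← pow_add, two_mul]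
      _ = g⁻¹ * s⁻¹ := by
          rw [pow_succ] at h2
          rw [eq_inv_of_mul_eq_one_left h2]
      _ = t := by
          rw [hg, mul_inv_rev, inv_eq_of_mul_eq_one_right hs2, inv_eq_of_mul_eq_one_right ht2,
            mul_assoc, hs2, mul_one]
  by_cases h2 : orderOf g = 2
  · have hgg : g * g = 1 := by rw [← sq, ← h2, pow_orderOf_eq_one]
    calc s * t = g := hg.symm
      _ = g⁻¹ := (inv_eq_of_mul_eq_one_right hgg).symm
      _ = t * s := by
          rw [hg, mul_inv_rev, inv_eq_of_mul_eq_one_right hs2, inv_eq_of_mul_eq_one_right ht2]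
  exfalso
  obtain ⟨⟨m, hm⟩, h43⟩ := H.four_dvd D h7 heven h2
  have hm0 : 0 < m := by
    rcases Nat.eq_zero_or_pos m with h | h
    · rw [h, mul_zero] at hm; exact absurd hm (orderOf_pos g).ne'
    · exact h
  set u := g ^ (2 * m) with hu
  have hu2 : orderOf u = 2 := by
    rw [hu, orderOf_pow_of_dvd (by omega) ⟨2, by rw [hm]; ring⟩, hm,
      show 4 * m = 2 * (2 * m) by ring, Nat.mul_div_cancel _ (by omega)]
  have huu : u⁻¹ = u := inv_eq_of_mul_eq_one_right (by rw [← sq, ← hu2, pow_orderOf_eq_one])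
  have hsu : s * u = u * s := by
    have : s * u * s⁻¹ = u := by rw [hu, ← conj_pow, hconj, inv_pow, ← hu, huu]
    exact mul_inv_eq_iff_eq_mul.1 this
  have hne : s ≠ u := fun he => by
    have hcg : s * g = g * s := by rw [he, hu]; exact (Commute.refl g).pow_left _
    rw [hcg, mul_inv_cancel_right] at hconj
    have hgg : g ^ 2 = 1 := by rw [sq, mul_eq_one_iff_eq_inv]; exact hconj
    have := Nat.le_of_dvd two_pos (orderOf_dvd_of_pow_eq_one hgg)
    omega
  have h45 := H.four_group D h7 hs hu2 hsu hne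
  have := Int.dvd_sub h43 h45
  norm_num at this

/-- All involutions are conjugate. -/
theorem Hyp.isConj_involutions {s t : G} (hs : orderOf s = 2) (ht : orderOf t = 2) :
    ∃ c : G, c * s * c⁻¹ = t := by
  by_contra! hn
  have hcomm : ∀ c : G, c * s * c⁻¹ * t = t * (c * s * c⁻¹) := fun c =>
    H.commute_of_not_conj D h7 (by rw [← MulAut.conj_apply, MulEquiv.orderOf_eq, hs]) ht fun e h =>
      hn (e * c) (by rw [← h]; group)
  have hle : Subgroup.normalClosure ({s} : Set G) ≤ Subgroup.centralizer {t} := by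
    refine (Subgroup.closure_le _).2 fun x hx => ?_
    obtain ⟨a, ha, hax⟩ := Group.mem_conjugatesOfSet_iff.1 hx
    obtain rfl : a = s := ha
    obtain ⟨c, hc⟩ := isConj_iff.1 hax
    rw [← hc]
    exact Subgroup.mem_centralizer_singleton_iff.2 (hcomm c)
  have hne : Subgroup.normalClosure ({s} : Set G) ≠ ⊥ := fun hb => by
    have : s ∈ Subgroup.normalClosure ({s} : Set G) := Subgroup.subset_normalClosure rfl
    rw [hb, Subgroup.mem_bot] at this
    rw [this, orderOf_one] at hs
    omega
  rw [H.eq_top_of_normal _ hne] at hle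
  obtain ⟨P⟩ : Nonempty (Sylow p G) := inferInstance
  have htP : t ∈ (P : Subgroup G) := by
    rw [← H.centralizer_eq P]
    exact Subgroup.mem_centralizer_iff.2 fun z _ =>
      Subgroup.mem_centralizer_singleton_iff.1 (hle (Subgroup.mem_top z))
  have := Subgroup.orderOf_dvd_natCard _ htP
  rw [ht, H.card_sylow P] at this
  have := (Nat.prime_dvd_prime_iff_eq Nat.prime_two hp.out).1 this
  omega

theorem Hyp.conj_fix {c g : G} : fixCount α (c * g * c⁻¹) = fixCount α g := by
  rw [fixCount, fixCount]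
  refine Nat.card_congr
    { toFun := fun x => ⟨c⁻¹ • x.1, ?_⟩
      invFun := fun x => ⟨c • x.1, ?_⟩
      left_inv := fun x => Subtype.ext (smul_inv_smul c _)
      right_inv := fun x => Subtype.ext (inv_smul_smul c _) }
  · show g • c⁻¹ • x.1 = c⁻¹ • x.1
    have hx : (c * g * c⁻¹) • x.1 = x.1 := x.2
    rw [eq_inv_smul_iff, ← mul_smul, ← mul_smul, hx]
  · show (c * g * c⁻¹) • c • x.1 = c • x.1
    have hx : g • x.1 = x.1 := x.2
    rw [mul_smul, mul_smul, inv_smul_smul, hx]

/-- **There is no example.** -/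
theorem Hyp.false_of_seven : False := by
  classical
  haveI := H.transitive
  haveI := H.nontrivial
  obtain ⟨P⟩ : Nonempty (Sylow p G) := inferInstance
  obtain ⟨a⟩ : Nonempty α := inferInstance
  obtain ⟨t, ht⟩ := H.odd
  have hs := H.two_mul_sylow D h7
  have hstab : Nat.card (stabilizer G a) = t * (2 * t - 1) := by
    rw [H.card_stabilizer_eq a]
    have h1 : (p - 1) * (p - 2) = 2 * (t * (2 * t - 1)) := by
      rw [show p - 1 = 2 * t by omega, show p - 2 = 2 * t - 1 by omega, mul_assoc]
    omega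
  have hcard : Nat.card G = 2 * p * (t * (2 * t - 1)) := by rw [H.card_eq a, hstab]
  have hregfix : ∀ (b : α), ∀ k ∈ stabilizer G b, ¬ p ∣ orderOf k := fun b k hk =>
    H.regular_of_fix (mem_stabilizer_iff.1 hk)
  -- the involutions
  set I := (Finset.univ : Finset G).filter fun g => orderOf g = 2 with hI
  have hvalI : ∀ g ∈ I, H.val D g = 0 := by
    intro g hg
    have hg2 := (Finset.mem_filter.1 hg).2
    rcases H.val_cases D h7 (by rw [hg2]; intro h; have := Nat.le_of_dvd two_pos h; omega)
      (fun e => by rw [e, orderOf_one] at hg2; omega) with ⟨h, -⟩ | ⟨-, h⟩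
    · exact h
    · exact absurd (by rw [← sq, ← hg2, pow_orderOf_eq_one]) h
  have hval : ∀ g : G, H.val D g = (if g = 1 then (p : ℤ) - 2 else 0) + 1 -
      (if orderOf g = 2 then 1 else 0) - (if p ∣ orderOf g then 2 else 0) := by
    intro g
    by_cases hg : p ∣ orderOf g
    · rw [H.val_sing D hg, if_neg (H.ne_one_of_sing D h7 hg), if_pos hg, if_neg]
      · norm_num
      · intro h2
        rw [h2] at hg
        have := Nat.le_of_dvd two_pos hg
        omega
    · rw [if_neg hg, sub_zero]
      by_cases h1 : g = 1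
      · subst h1
        rw [H.val_one D, if_pos rfl, if_neg (by rw [orderOf_one]; omega)]
        ring
      · rw [if_neg h1]
        by_cases h2 : orderOf g = 2
        · rw [hvalI g (Finset.mem_filter.2 ⟨Finset.mem_univ _, h2⟩), if_pos h2]
          ring
        · rcases H.val_cases D h7 hg h1 with ⟨-, h⟩ | ⟨h, -⟩
          · exact absurd (orderOf_eq_prime (by rw [sq, h]) h1) h2
          · rw [h, if_neg h2]
            ring
  have hG : (Nat.card G : ℂ) ≠ 0 := Nat.cast_ne_zero.2 Nat.card_pos.ne'
  have hsum0 : ∑ g : G, H.val D g = 0 := by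
    have hne : D.χ ≠ principalIrr G := fun h => by
      have := D.χ_deg
      rw [h, show charDegree (principalIrr G : G → ℂ) = 1 by simp [charDegree, principalIrr]] at this
      omega
    have h := classInner_irr D.χ (principalIrr G)
    rw [if_neg hne, classInner, mul_eq_zero] at h
    have h' := h.resolve_left (inv_ne_zero hG)
    simp only [principalIrr, map_one, mul_one, H.chi_eq D] at h'
    exact_mod_cast h'
  have hIcard : I.card = p * (2 * t - 1) := by
    have hns := card_singular P (H.card_sylow P) (H.centralizer_eq P)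
    rw [← H.card_stabilizer_eq a, hstab] at hns
    rw [Finset.sum_congr rfl fun g _ => hval g, Finset.sum_sub_distrib, Finset.sum_sub_distrib,
      Finset.sum_add_distrib, Finset.sum_ite_eq', if_pos (Finset.mem_univ _), Finset.sum_const,
      Finset.card_univ, ← Nat.card_eq_fintype_card, hcard, ← Finset.sum_filter, ← Finset.sum_filter,
      Finset.sum_const, Finset.sum_const, hns, ← hI] at hsum0
    simp only [nsmul_eq_mul, mul_one] at hsum0
    have h' : ((I.card : ℕ) : ℤ) = ((p * (2 * t - 1) : ℕ) : ℤ) := by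
      subst ht
      push_cast [Nat.cast_sub (show 1 ≤ 2 * t by omega),
        Nat.cast_sub (show 1 ≤ 2 * t + 1 by omega)] at hsum0 ⊢
      linarith
    exact_mod_cast h'
  -- the fixed point sums
  have hf : ∑ g : G, (fixCount α g : ℤ) = (Nat.card G : ℤ) := by
    have h : ∑ g : G, fixCount α g = 1 * Nat.card G :=
      sum_fix_of_label (G := G) (β := α) (n := 1) (fun _ => 0) (fun _ _ => rfl)
        (fun i => ⟨a, (Subsingleton.elim _ _)⟩) fun x y _ => exists_smul_eq G x y
    rw [one_mul] at h
    exact_mod_cast h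
  have hfχ : ∑ g : G, (fixCount α g : ℤ) * H.val D g = (Nat.card G : ℤ) := by
    have h := D.inner_χ
    rw [classInner, inv_mul_eq_iff_eq_mul₀ hG, mul_one] at h
    simp only [H.chi_eq D, map_intCast] at h
    exact_mod_cast h
  have hfix : ∀ g ∈ I, fixCount α g = 2 := by
    intro g hg
    have hsumI : ∑ x ∈ I, (fixCount α x : ℤ) = 2 * (p : ℤ) * ((p : ℤ) - 2) := by
      have e : ∀ x : G, (fixCount α x : ℤ) * H.val D x = (fixCount α x : ℤ) +
          (if x = 1 then 2 * (p : ℤ) * ((p : ℤ) - 2) else 0) -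
            (if orderOf x = 2 then (fixCount α x : ℤ) else 0) := by
        intro x
        rw [hval x]
        by_cases hx : p ∣ orderOf x
        · rw [H.fix_singular hx, if_neg (H.ne_one_of_sing D h7 hx), if_neg (H.ne_one_of_sing D h7 hx)]
          simp
        · rw [if_neg hx]
          by_cases h1 : x = 1
          · subst h1
            rw [if_pos rfl, if_pos rfl, if_neg (by rw [orderOf_one]; omega),
              if_neg (by rw [orderOf_one]; omega), H.fix_one]
            push_cast
            ring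
          · rw [if_neg h1, if_neg h1]
            split_ifs <;> ring
      rw [Finset.sum_congr rfl fun x _ => e x, Finset.sum_sub_distrib, Finset.sum_add_distrib,
        Finset.sum_ite_eq', if_pos (Finset.mem_univ _), hf, ← Finset.sum_filter, ← hI] at hfχ
      linarith
    have hconst : ∀ x ∈ I, fixCount α x = fixCount α g := fun x hx => by
      obtain ⟨c, rfl⟩ := H.isConj_involutions D h7 (Finset.mem_filter.1 hg).2 (Finset.mem_filter.1 hx).2
      exact H.conj_fix D h7
    rw [Finset.sum_congr rfl fun x hx => by rw [hconst x hx], Finset.sum_const, hIcard,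
      nsmul_eq_mul] at hsumI
    have h2 : (p : ℤ) * (((2 * t - 1 : ℕ) : ℤ) * (fixCount α g : ℤ)) =
        (p : ℤ) * (((2 * t - 1 : ℕ) : ℤ) * 2) := by
      push_cast [Nat.cast_sub (show 1 ≤ 2 * t by omega)] at hsumI ⊢
      subst ht
      push_cast at hsumI ⊢
      linarith
    have h3 := mul_left_cancel₀ (by omega : ((2 * t - 1 : ℕ) : ℤ) ≠ 0)
      (mul_left_cancel₀ (by omega : (p : ℤ) ≠ 0) h2)
    exact_mod_cast h3
  -- the involutions of the point stabiliser
  set Ia := I.filter fun g => g • a = a with hIa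
  have hja : ∀ b : α, (Nat.card {k : G // k ∈ stabilizer G a ⊓ stabilizer G b ∧ orderOf k = 2}) =
      (Ia.filter fun g => g • b = b).card := fun b => by
    rw [Nat.card_eq_fintype_card]
    refine Fintype.card_of_subtype _ fun k => ?_
    simp only [hIa, hI, Finset.mem_filter, Finset.mem_univ, true_and, Subgroup.mem_inf,
      mem_stabilizer_iff]
    tauto
  have hIacard : Ia.card = 2 * t - 1 := by
    have hdc : ∑ x ∈ I, fixCount α x = 2 * p * Ia.card := by
      have e : ∀ x : G, fixCount α x = ((Finset.univ : Finset α).filter fun b => x • b = b).card :=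
        fun x => by
          rw [fixCount, ← Set.ncard_coe_finset, Nat.card_coe_set_eq]
          congr 1
          ext b
          simp
      simp only [e, Finset.card_filter]
      rw [Finset.sum_comm, show 2 * p = (Finset.univ : Finset α).card by rw [Finset.card_univ, H.hα],
        ← smul_eq_mul, ← Finset.sum_const]
      refine Finset.sum_congr rfl fun b _ => ?_
      rw [← Finset.card_filter, hIa]
      obtain ⟨c, rfl⟩ := exists_smul_eq G a b
      refine Finset.card_bij' (fun x _ => c⁻¹ * x * c) (fun x _ => c * x * c⁻¹) (fun x hx => ?_)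
        (fun x hx => ?_) (fun x _ => by group) (fun x _ => by group)
      · simp only [hI, Finset.mem_filter, Finset.mem_univ, true_and] at hx ⊢
        refine ⟨?_, by rw [mul_smul, mul_smul, hx.2, inv_smul_smul]⟩
        rw [show c⁻¹ * x * c = MulAut.conj c⁻¹ x by simp, MulEquiv.orderOf_eq, hx.1]
      · simp only [hI, Finset.mem_filter, Finset.mem_univ, true_and] at hx ⊢
        refine ⟨?_, by rw [mul_smul, mul_smul, inv_smul_smul, hx.2]⟩
        rw [← MulAut.conj_apply, MulEquiv.orderOf_eq, hx.1]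
    rw [Finset.sum_congr rfl hfix, Finset.sum_const, hIcard, smul_eq_mul] at hdc
    exact (Nat.eq_of_mul_eq_mul_left (by omega : 0 < 2 * p) (by rw [← hdc]; ring)).symm
  obtain ⟨τ, hτ⟩ : Ia.Nonempty := Finset.card_pos.1 (by omega)
  have hτI : τ ∈ I := (Finset.mem_filter.1 hτ).1
  have hτ2 : orderOf τ = 2 := (Finset.mem_filter.1 hτI).2
  have hτa : τ • a = a := (Finset.mem_filter.1 hτ).2
  -- a fixed point set of size two
  have huniq : ∀ x ∈ Ia, ∀ b c : α, b ≠ a → c ≠ a → x • b = b → x • c = c → b = c := by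
    intro x hx b c hb hc hxb hxc
    by_contra hbc
    have h := hfix x (Finset.mem_filter.1 hx).1
    have hle : ({a, b, c} : Finset α).card ≤ fixCount α x := by
      rw [fixCount, Nat.card_coe_set_eq, ← Set.ncard_coe_finset]
      refine Set.ncard_le_ncard (fun y hy => ?_) (Set.toFinite _)
      simp only [Finset.coe_insert, Finset.coe_singleton, Set.mem_insert_iff, Set.mem_singleton_iff] at hy
      rcases hy with rfl | rfl | rfl
      · exact (Finset.mem_filter.1 hx).2
      · exact hxb
      · exact hxc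
    rw [h, Finset.card_insert_of_notMem (by simp [Ne.symm hb, Ne.symm hc]),
      Finset.card_pair hbc] at hle
    omega
  obtain ⟨b, hba, hτb⟩ : ∃ b, b ≠ a ∧ τ • b = b := by
    have h := hfix τ hτI
    rw [fixCount, Nat.card_coe_set_eq] at h
    obtain ⟨b, hb, hb'⟩ := Set.exists_ne_of_one_lt_ncard (h ▸ one_lt_two) a
    exact ⟨b, hb', hb⟩
  set K := stabilizer G a ⊓ stabilizer G b with hK
  -- the centraliser
  have hC : Nat.card (Subgroup.centralizer ({τ} : Set G)) = 2 * t := by
    have hidx : (Subgroup.centralizer ({τ} : Set G)).index = I.card := by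
      rw [Subgroup.index, ← Set.ncard_coe_finset, ← Nat.card_coe_set_eq]
      have hmem : ∀ g : G, g * τ * g⁻¹ ∈ (I : Set G) := fun g => by
        rw [Finset.mem_coe, hI, Finset.mem_filter, ← MulAut.conj_apply, MulEquiv.orderOf_eq]
        exact ⟨Finset.mem_univ _, hτ2⟩
      refine Nat.card_congr (Equiv.ofBijective (Quotient.lift (fun g : G => (⟨_, hmem g⟩ : (I : Set G)))
        fun g g' hgg => ?_) ⟨?_, ?_⟩)
      · have h : g⁻¹ * g' ∈ Subgroup.centralizer ({τ} : Set G) := QuotientGroup.leftRel_apply.1 hgg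
        rw [Subgroup.mem_centralizer_singleton_iff] at h
        refine Subtype.ext ?_
        show g * τ * g⁻¹ = g' * τ * g'⁻¹
        calc g * τ * g⁻¹ = g * (τ * (g⁻¹ * g')) * g'⁻¹ := by group
          _ = g * ((g⁻¹ * g') * τ) * g'⁻¹ := by rw [h]
          _ = g' * τ * g'⁻¹ := by group
      · intro x y
        induction x using Quotient.inductionOn with
        | h g =>
          induction y using Quotient.inductionOn with
          | h g' =>
            intro hxy
            have h' : g * τ * g⁻¹ = g' * τ * g'⁻¹ := congrArg Subtype.val hxy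
            refine Quotient.sound (QuotientGroup.leftRel_apply.2 ?_)
            rw [Subgroup.mem_centralizer_singleton_iff]
            calc g⁻¹ * g' * τ = g⁻¹ * (g' * τ * g'⁻¹) * g' := by group
              _ = g⁻¹ * (g * τ * g⁻¹) * g' := by rw [h']
              _ = τ * (g⁻¹ * g') := by group
      · rintro ⟨x, hx⟩
        obtain ⟨c, hc⟩ := H.isConj_involutions D h7 hτ2 (Finset.mem_filter.1 hx).2
        exact ⟨Quotient.mk _ c, Subtype.ext hc⟩
    have h := (Subgroup.centralizer ({τ} : Set G)).card_mul_index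
    rw [hidx, hIcard, hcard] at h
    refine Nat.eq_of_mul_eq_mul_right (m := p * (2 * t - 1))
      (Nat.mul_pos hp.out.pos (by omega)) ?_
    rw [h]
    ring
  have htK : t ∣ Nat.card K := by
    set C := Subgroup.centralizer ({τ} : Set G)
    have hle : C ⊓ stabilizer G a ≤ K := fun c hc => by
      obtain ⟨hcC, hca⟩ := Subgroup.mem_inf.1 hc
      refine Subgroup.mem_inf.2 ⟨hca, mem_stabilizer_iff.2 ?_⟩
      have hcomm : c * τ = τ * c := Subgroup.mem_centralizer_singleton_iff.1 hcC
      have hτcb : τ • c • b = c • b := by rw [← mul_smul, ← hcomm, mul_smul, hτb]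
      exact huniq τ hτ (c • b) b (fun e => hba (smul_left_cancel c
        (e.trans (mem_stabilizer_iff.1 hca).symm))) hba hτcb hτb
    refine dvd_trans ?_ (Subgroup.card_dvd_of_le hle)
    have horb : orbit C a ⊆ ({a, b} : Set α) := by
      rintro _ ⟨⟨c, hc⟩, rfl⟩
      have hcomm : c * τ = τ * c := Subgroup.mem_centralizer_singleton_iff.1 hc
      show c • a ∈ ({a, b} : Set α)
      by_cases h : c • a = a
      · exact Or.inl h
      · refine Or.inr (huniq τ hτ (c • a) b h hba ?_ hτb)
        rw [← mul_smul, ← hcomm, mul_smul, hτa]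
    have h1 : (stabilizer C a).index ≤ 2 := by
      rw [index_stabilizer]
      exact (Set.ncard_le_ncard horb (Set.toFinite _)).trans (by
        rw [Set.ncard_pair (Ne.symm hba)])
    have h2 := (stabilizer C a).card_mul_index
    rw [hC] at h2
    have h3 : Nat.card (stabilizer C a) = Nat.card (C ⊓ stabilizer G a : Subgroup G) :=
      Nat.card_congr
        { toFun := fun c => ⟨(c.1 : G), ⟨c.1.2, mem_stabilizer_iff.2 (mem_stabilizer_iff.1 c.2)⟩⟩
          invFun := fun c => ⟨⟨c.1, c.2.1⟩, mem_stabilizer_iff.2 (mem_stabilizer_iff.1 c.2.2 :)⟩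
          left_inv := fun _ => rfl
          right_inv := fun _ => rfl }
    rw [h3] at h2
    have hpos : 0 < (stabilizer C a).index := Nat.pos_of_ne_zero Subgroup.index_ne_zero_of_finite
    interval_cases hh : (stabilizer C a).index
    · exact ⟨2, by omega⟩
    · exact ⟨1, by omega⟩
  -- the orbit of `b`
  obtain ⟨h, hh⟩ := htK
  set O := orbit (stabilizer G a) b with hO
  have hk : O.ncard * Nat.card K = t * (2 * t - 1) := by
    rw [← hstab, hO, ← index_stabilizer, mul_comm]
    rw [← (stabilizer (stabilizer G a) b).card_mul_index]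
    congr 1
    exact Nat.card_congr
      { toFun := fun c => ⟨⟨c.1, c.2.1⟩, mem_stabilizer_iff.2 (mem_stabilizer_iff.1 c.2.2 :)⟩
        invFun := fun c => ⟨(c.1 : G), ⟨c.1.2, mem_stabilizer_iff.2 (mem_stabilizer_iff.1 c.2)⟩⟩
        left_inv := fun _ => rfl
        right_inv := fun _ => rfl }
  rw [hh] at hk
  have hkh : O.ncard * h = 2 * t - 1 :=
    Nat.eq_of_mul_eq_mul_left (n := t) (by omega) (by rw [← hk]; ring)
  have hk2 : 2 ≤ O.ncard := by
    obtain ⟨g, hga, hgb⟩ := H.exists_moved D.orbits a b (Ne.symm hba)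
    exact (Set.one_lt_ncard (Set.toFinite _)).2
      ⟨b, mem_orbit_self b, g • b, ⟨⟨g, mem_stabilizer_iff.2 hga⟩, rfl⟩, Ne.symm hgb⟩
  set j := (Ia.filter fun g => g • b = b).card with hj
  have hj1 : 1 ≤ j := Finset.card_pos.2 ⟨τ, Finset.mem_filter.2 ⟨hτ, hτb⟩⟩
  have hkj : O.ncard * j ≤ 2 * t - 1 := by
    rw [Set.ncard_eq_toFinset_card O (Set.toFinite _), ← hIacard]
    have hOa : ∀ c ∈ (Set.toFinite O).toFinset, c ≠ a := by
      intro c hc e
      rw [Set.Finite.mem_toFinset, hO] at hc
      obtain ⟨⟨g, hg⟩, hgc⟩ := hc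
      exact hba (smul_left_cancel g ((show g • b = c from hgc).trans
        (e.trans (mem_stabilizer_iff.1 hg).symm)))
    calc (Set.toFinite O).toFinset.card * j
        = ∑ c ∈ (Set.toFinite O).toFinset, (Ia.filter fun g => g • c = c).card := by
          rw [← smul_eq_mul, ← Finset.sum_const]
          refine Finset.sum_congr rfl fun c hc => ?_
          rw [Set.Finite.mem_toFinset, hO] at hc
          obtain ⟨⟨g, hg⟩, hgc⟩ := hc
          have hgb : g • b = c := hgc
          have hga : g • a = a := mem_stabilizer_iff.1 hg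
          have hga' : g⁻¹ • a = a := inv_smul_eq_iff.2 hga.symm
          subst hgb
          refine Finset.card_bij' (fun x _ => g * x * g⁻¹) (fun x _ => g⁻¹ * x * g) (fun x hx => ?_)
            (fun x hx => ?_) (fun x _ => by group) (fun x _ => by group)
          · simp only [hIa, hI, Finset.mem_filter, Finset.mem_univ, true_and] at hx ⊢
            refine ⟨⟨?_, by rw [mul_smul, mul_smul, hga', hx.1.2, hga]⟩,
              by rw [mul_smul, mul_smul, inv_smul_smul, hx.2]⟩
            rw [← MulAut.conj_apply, MulEquiv.orderOf_eq, hx.1.1]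
          · simp only [hIa, hI, Finset.mem_filter, Finset.mem_univ, true_and] at hx ⊢
            refine ⟨⟨?_, by rw [mul_smul, mul_smul, hga, hx.1.2, hga']⟩,
              by rw [mul_smul, mul_smul, hx.2, inv_smul_smul]⟩
            rw [show g⁻¹ * x * g = MulAut.conj g⁻¹ x by simp, MulEquiv.orderOf_eq, hx.1.1]
      _ = ((Set.toFinite O).toFinset.biUnion fun c => Ia.filter fun g => g • c = c).card := by
          refine (Finset.card_biUnion fun c hc d hd hne => Finset.disjoint_left.2 fun x hx hx' => ?_).symm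
          exact hne (huniq x (Finset.mem_filter.1 hx).1 c d (hOa c hc) (hOa d hd)
            (Finset.mem_filter.1 hx).2 (Finset.mem_filter.1 hx').2)
      _ ≤ Ia.card := Finset.card_le_card (Finset.biUnion_subset.2 fun c _ => Finset.filter_subset _ _)
  have hh0 : 0 < h := Nat.pos_of_ne_zero fun e => by rw [e, mul_zero] at hkh; omega
  have h2h : 2 * h ≤ 2 * t - 1 := hkh ▸ Nat.mul_le_mul_right h hk2
  have hjh : j ≤ h := Nat.le_of_mul_le_mul_left (a := j) (hkj.trans hkh.ge) (by omega)
  have hd := H.dvd_key D h7 K fun k hk => hregfix a k hk.1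
  rw [hK, hja b, ← hK, hh, ← hj] at hd
  have hd' : ((t * h : ℕ) : ℤ) ∣ ((2 * t - 1 - j : ℕ) : ℤ) := by
    rw [show ((2 * t - 1 - j : ℕ) : ℤ) = (p : ℤ) - 2 - (j : ℤ) by omega]
    exact hd
  have hd'' : t * h ∣ 2 * t - 1 - j := by exact_mod_cast hd'
  have hle := Nat.le_of_dvd (by omega) hd''
  have h1 : h = 1 := by
    by_contra hne
    have : t * 2 ≤ t * h := Nat.mul_le_mul_left t (by omega)
    omega
  subst h1
  rw [mul_one] at hd'' hle
  have hj' : j = 1 := by omega
  rw [hj', show 2 * t - 1 - 1 = 2 * t - 2 by omega] at hd''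
  have h2 : t ∣ 2 := by
    have h' := Nat.dvd_sub (dvd_mul_left t 2) hd''
    rwa [show 2 * t - (2 * t - 2) = 2 by omega] at h'
  have := Nat.le_of_dvd two_pos h2
  omega

end CfsgLib.PermPrime.TwoP
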