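import Cfsg.Agent.Lib.PermPrime.TwoP.Orbitals
import Cfsg.Agent.Lib.PermPrime.Wedge
import Cfsg.Agent.Lib.Characters.Galois
import Cfsg.Agent.Lib.Characters.Values

/-!
# The values of the character of degree `p - 1`
-/

set_option autoImplicit false
set_option linter.style.haveILetI false
set_option linter.unusedSectionVars false

noncomputable section

namespace CfsgLib.PermPrime.TwoP

open Cfsg CfsgLib.Characters MulAction
open scoped ComplexConjugate

universe u v

variable {p : ℕ} [hp : Fact p.Prime] {G : Type u} [Group G] [Fintype G] {α : Type v}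
  [MulAction G α] [Fintype α] (H : Hyp p G α) (D : Data p G α)

include H

theorem Hyp.regular_sq {g : G} (hg : ¬ p ∣ orderOf g) : ¬ p ∣ orderOf (g * g) := fun h =>
  hg (h.trans (by rw [← sq]; exact orderOf_pow_dvd 2))

theorem Hyp.singular_pow {g : G} (hg : p ∣ orderOf g) {m : ℕ} (hm : ¬ p ∣ m) :
    p ∣ orderOf (g ^ m) := by
  have h := (orderOf_dvd_of_pow_eq_one (show g ^ (m * orderOf (g ^ m)) = 1 by
    rw [pow_mul, pow_orderOf_eq_one]))
  exact ((hp.out.dvd_mul).1 (hg.trans h)).resolve_left hm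

theorem Hyp.singular_sq {g : G} (hg : p ∣ orderOf g) : p ∣ orderOf (g * g) := by
  rw [← sq]
  refine H.singular_pow hg fun h => ?_
  have := Nat.le_of_dvd (by norm_num) h
  have := H.hp
  omega

theorem Hyp.chi_one : (D.χ : G → ℂ) 1 = ((p - 1 : ℕ) : ℂ) := by
  rw [CharCorr.irr_one_eq_charDegree, D.χ_deg]

theorem Hyp.exists_int (g : G) : ∃ z : ℤ, (D.χ : G → ℂ) g = z := by
  haveI : NeZero (Nat.card G) := ⟨Nat.card_pos.ne'⟩
  obtain ⟨x, hx⟩ := exists_prime_orderOf_dvd_card' (G := G) p ((dvd_mul_left p 2).trans H.dvd_card)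
  obtain ⟨q, hq⟩ := CharGalois.exists_rat_char (irr_isCharacter D.χ) g fun m hm => by
    have hξ : IsIrrCharacter G fun g => (D.χ : G → ℂ) (g ^ m) :=
      CharGalois.isIrrCharacter_pow D.χ.2 hm
    have hxm : p ∣ orderOf (x ^ m) := H.singular_pow (dvd_of_eq hx.symm) fun h => by
      have h1 : p ∣ Nat.gcd m (Nat.card G) := Nat.dvd_gcd h ((dvd_mul_left p 2).trans H.dvd_card)
      rw [hm] at h1
      exact hp.out.not_dvd_one h1
    have h := D.unique ⟨_, hξ⟩ (by
      rw [← D.χ_deg]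
      show charDegree (fun g => (D.χ : G → ℂ) (g ^ m)) = charDegree (D.χ : G → ℂ)
      simp only [charDegree, one_pow]) x (dvd_of_eq hx.symm) (by
      show (D.χ : G → ℂ) (x ^ m) ≠ 0
      rw [D.χ_sing _ hxm]
      norm_num)
    exact congrFun (congrArg Subtype.val h) g
  obtain ⟨z, rfl⟩ := exists_int_of_isIntegral_rat (q := q)
    (hq ▸ isIntegral_of_isCharacter (irr_isCharacter D.χ) g)
  exact ⟨z, by rw [hq, Rat.cast_intCast]⟩

/-- The integer value. -/
def Hyp.val (g : G) : ℤ := (H.exists_int D g).choose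

theorem Hyp.chi_eq (g : G) : (D.χ : G → ℂ) g = (H.val D g : ℂ) := (H.exists_int D g).choose_spec

theorem Hyp.val_one : H.val D 1 = (p : ℤ) - 1 := by
  have h := (H.chi_eq D 1).symm.trans (H.chi_one D)
  have h' : H.val D 1 = ((p - 1 : ℕ) : ℤ) := by exact_mod_cast h
  rw [h', Nat.cast_sub hp.out.one_le, Nat.cast_one]

theorem Hyp.val_sing {g : G} (hg : p ∣ orderOf g) : H.val D g = -1 := by
  have h := (H.chi_eq D g).symm.trans (D.χ_sing g hg)
  exact_mod_cast h

/-- Roots behind the values. -/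
theorem Hyp.exists_roots (g : G) : ∃ z : Fin (p - 1) → ℂ, (∀ i, ‖z i‖ = 1) ∧
    ∀ k : ℕ, (H.val D (g ^ k) : ℝ) = ∑ i, ((z i) ^ k).re := by
  obtain ⟨N, z, hz, hd⟩ := CharGalois.exists_root_decomp (irr_isCharacter D.χ) g
  have h0 := hd 0
  rw [pow_zero, H.chi_one D] at h0
  simp only [pow_zero, Finset.sum_const, Finset.card_univ, Fintype.card_fin, nsmul_one] at h0
  have hN : p - 1 = N := by exact_mod_cast h0
  subst hN
  refine ⟨z, fun i => Complex.norm_eq_one_of_pow_eq_one (hz i) Nat.card_pos.ne', fun k => ?_⟩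
  rw [← Complex.re_sum, ← hd k, H.chi_eq D, Complex.intCast_re]

theorem Hyp.val_le (g : G) : H.val D g ≤ (p : ℤ) - 1 := by
  obtain ⟨z, hz, hd⟩ := H.exists_roots D g
  have h := hd 1
  rw [pow_one] at h
  have hle : ∑ i, ((z i) ^ 1).re ≤ ∑ _i : Fin (p - 1), (1 : ℝ) := Finset.sum_le_sum fun i _ => by
    rw [pow_one]
    exact le_trans (Complex.re_le_norm _) (hz i).le
  rw [← h, Finset.sum_const, Finset.card_univ, Fintype.card_fin, nsmul_one,
    Nat.cast_sub hp.out.one_le, Nat.cast_one] at hle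
  exact_mod_cast hle

theorem Hyp.sq_defect (g : G) :
    (p : ℤ) - 1 - H.val D (g * g) ≤ 4 * ((p : ℤ) - 1 - H.val D g) := by
  obtain ⟨z, hz, hd⟩ := H.exists_roots D g
  have h1 := hd 1
  have h2 := hd 2
  rw [pow_one] at h1
  rw [sq] at h2
  have hle : ∑ i, (1 - ((z i) ^ 2).re) ≤ ∑ i, 4 * (1 - ((z i) ^ 1).re) := by
    refine Finset.sum_le_sum fun i _ => ?_
    have hn := Complex.sq_norm (z i)
    rw [hz i, Complex.normSq_apply] at hn
    rw [pow_one, sq, Complex.mul_re]
    have hre : (z i).re ≤ 1 := le_trans (Complex.re_le_norm _) (hz i).le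
    nlinarith
  rw [Finset.sum_sub_distrib, ← Finset.mul_sum, Finset.sum_sub_distrib, ← h1, ← h2] at hle
  simp only [Finset.sum_const, Finset.card_univ, Fintype.card_fin, nsmul_one] at hle
  rw [Nat.cast_sub hp.out.one_le, Nat.cast_one] at hle
  exact_mod_cast hle

theorem Hyp.eq_one_of_val {g : G} (hg : H.val D g = (p : ℤ) - 1) : g = 1 := by
  obtain ⟨n, ρ, -, hρ⟩ := D.χ.2
  have hn : (Module.finrank ℂ (Fin n → ℂ) : ℂ) = (D.χ : G → ℂ) 1 := by
    rw [← hρ]
    simp
  have hker : ∀ x : G, H.val D x = (p : ℤ) - 1 ↔ x ∈ ρ.ker := by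
    intro x
    have hiff : ρ.character x = (Module.finrank ℂ (Fin n → ℂ) : ℂ) ↔ ρ x = LinearMap.id :=
      char_eq_degree_iff ρ x
    rw [MonoidHom.mem_ker, Module.End.one_eq_id, ← hiff, hn,
      show ρ.character x = (D.χ : G → ℂ) x by rw [hρ], H.chi_eq D x, H.chi_eq D 1, H.val_one D]
    exact Int.cast_inj.symm
  by_contra hne
  have htop : ρ.ker = ⊤ := H.eq_top_of_normal _ fun hb => hne (by
    have := (hker g).1 hg
    rwa [hb, Subgroup.mem_bot] at this)
  obtain ⟨x, hx⟩ := exists_prime_orderOf_dvd_card' (G := G) p ((dvd_mul_left p 2).trans H.dvd_card)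
  have h := (hker x).2 (htop ▸ Subgroup.mem_top x)
  rw [H.val_sing D (dvd_of_eq hx.symm)] at h
  have := H.hp
  omega

/-- The antisymmetric square is the sum of the exceptional characters. -/
theorem Hyp.wedge_eq (g : G) :
    ((D.χ : G → ℂ) g * (D.χ : G → ℂ) g - (D.χ : G → ℂ) (g * g)) / 2 =
      ∑ θ ∈ D.Y, (θ : G → ℂ) g := by
  classical
  set L : G → ℂ := fun g =>
    ((D.χ : G → ℂ) g * (D.χ : G → ℂ) g - (D.χ : G → ℂ) (g * g)) / 2 with hL
  have hLc : IsCharacter G L := isCharacter_wedge (irr_isCharacter D.χ)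
  set R : G → ℂ := (principalIrr G : G → ℂ) + (D.ψ : G → ℂ) with hR
  have hRc : IsCharacter G R := isCharacter_add (irr_isCharacter _) (irr_isCharacter _)
  have hMc : IsCharacter G fun g => (R g * R g - R (g * g)) / 2 := isCharacter_wedge hRc
  have hPc : IsCharacter G ((D.χ : G → ℂ) * R) := isCharacter_mul (irr_isCharacter _) hRc
  have h1c : IsCharacter G (principalIrr G : G → ℂ) := irr_isCharacter _
  obtain ⟨l, hl⟩ := classInner_char_nat hLc h1c
  obtain ⟨l₁, hl₁⟩ := classInner_char_nat hMc h1c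
  obtain ⟨l₂, hl₂⟩ := classInner_char_nat hPc h1c
  have hG : (Nat.card G : ℂ) ≠ 0 := Nat.cast_ne_zero.2 Nat.card_pos.ne'
  have hl0 : l = 0 := by
    have h : (l : ℂ) + l₁ + l₂ = 0 := by
      rw [← hl, ← hl₁, ← hl₂]
      simp only [classInner, ← mul_add, ← Finset.sum_add_distrib, principalIrr, map_one, mul_one]
      have e : ∀ g : G, L g + (R g * R g - R (g * g)) / 2 + ((D.χ : G → ℂ) * R) g =
          ((fixCount α g : ℂ) * (fixCount α g : ℂ) - (fixCount α (g * g) : ℂ)) / 2 := fun g => by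
        rw [D.perm g, D.perm (g * g), hL]
        simp only [hR, Pi.add_apply, Pi.mul_apply, principalIrr]
        ring
      rw [Finset.sum_congr rfl fun g _ => e g, ← Finset.sum_div, Finset.sum_sub_distrib]
      have hsq : (∑ g : G, (fixCount α (g * g) : ℂ)) =
          ∑ g : G, (fixCount α g : ℂ) * (fixCount α g : ℂ) := by
        exact_mod_cast H.sum_fix_sq D.orbits
      rw [hsq, sub_self, zero_div, mul_zero]
    have h' : l + l₁ + l₂ = 0 := by exact_mod_cast h
    omega
  rw [hl0, Nat.cast_zero] at hl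
  -- the value at singular elements
  have hsing : ∀ g : G, p ∣ orderOf g → L g = 1 := fun g hg => by
    simp only [hL]
    rw [D.χ_sing g hg, D.χ_sing _ (H.singular_sq hg)]
    norm_num
  choose m hm using fun φ : IrrCharacter G => classInner_char_nat hLc (irr_isCharacter φ)
  have hzero : ∀ φ : IrrCharacter G, φ ≠ principalIrr G → ∑ g : G, conj ((φ : G → ℂ) g) = 0 := by
    intro φ hφ
    have h := classInner_irr (principalIrr G) φ
    rw [if_neg (Ne.symm hφ), classInner, mul_eq_zero] at h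
    simpa [principalIrr] using h.resolve_left (inv_ne_zero hG)
  have hχne : D.χ ≠ principalIrr G := fun h => by
    have := D.χ_deg
    rw [h, show charDegree (principalIrr G : G → ℂ) = 1 by simp [charDegree, principalIrr]] at this
    have := H.hp
    omega
  have hYne : ∀ θ ∈ D.Y, θ ≠ principalIrr G := fun θ hθ h => by
    have h1 := D.rel θ hθ 1 (by rw [orderOf_one]; exact hp.out.not_dvd_one)
    rw [h, H.chi_one D] at h1
    simp only [principalIrr] at h1
    have h2 : ((p - 1 : ℕ) : ℂ) = ((2 : ℕ) : ℂ) := by push_cast; linear_combination -h1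
    have h3 : p - 1 = 2 := by exact_mod_cast h2
    have := H.hp
    omega
  have hkey : ∀ θ ∈ D.Y, m θ = m D.χ + 1 := by
    intro θ hθ
    have h : (Nat.card G : ℂ) * ((m D.χ : ℂ) - m θ) = -(Nat.card G : ℂ) := by
      rw [← hm, ← hm]
      simp only [classInner, ← mul_sub, ← Finset.sum_sub_distrib, ← mul_assoc]
      rw [mul_inv_cancel₀ hG, one_mul]
      have hsum1 : ∑ g : G, L g = 0 := by
        rw [classInner, mul_eq_zero] at hl
        simpa [principalIrr] using hl.resolve_left (inv_ne_zero hG)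
      have e : ∀ g : G, L g * (conj ((D.χ : G → ℂ) g) - conj ((θ : G → ℂ) g)) =
          L g + (conj ((D.χ : G → ℂ) g) - conj ((θ : G → ℂ) g)) - 1 := by
        intro g
        by_cases hg : p ∣ orderOf g
        · rw [hsing g hg]
          ring
        · rw [D.rel θ hθ g hg]
          simp only [map_sub, map_one]
          ring
      rw [Finset.sum_congr rfl fun g _ => e g, Finset.sum_sub_distrib, Finset.sum_add_distrib,
        Finset.sum_sub_distrib, hsum1, hzero _ hχne, hzero _ (hYne θ hθ)]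
      simp [Nat.card_eq_fintype_card]
    have h' : (m D.χ : ℂ) - m θ = -1 := mul_left_cancel₀ hG (by rw [h]; ring)
    have h'' : (m θ : ℂ) = ((m D.χ + 1 : ℕ) : ℂ) := by push_cast; linear_combination -h'
    exact_mod_cast h''
  have hexp : ∀ x : G, L x = ∑ φ : IrrCharacter G, (m φ : ℂ) * (φ : G → ℂ) x := fun x => by
    have h := congrFun (classFunction_eq_sum (isClassFunction_of_isCharacter hLc)) x
    simp only [Finset.sum_apply, Pi.smul_apply, smul_eq_mul, hm] at h
    exact h
  obtain ⟨t, ht⟩ := H.odd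
  obtain ⟨t', rfl⟩ : ∃ t', t = t' + 1 := ⟨t - 1, by have := H.hp; omega⟩
  have hYd : ∀ θ ∈ D.Y, charDegree (θ : G → ℂ) = 2 * t' + 1 := by
    intro θ hθ
    have h1 := D.rel θ hθ 1 (by rw [orderOf_one]; exact hp.out.not_dvd_one)
    rw [CharCorr.irr_one_eq_charDegree, H.chi_one D, show p - 1 = 2 * (t' + 1) by omega] at h1
    have h2 : (charDegree (θ : G → ℂ) : ℂ) = ((2 * t' + 1 : ℕ) : ℂ) := by
      rw [h1]
      push_cast
      ring
    exact_mod_cast h2
  have hdeg : ∑ φ : IrrCharacter G, m φ * charDegree (φ : G → ℂ) = (t' + 1) * (2 * t' + 1) := by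
    have h := hexp 1
    simp only [hL, CharCorr.irr_one_eq_charDegree, mul_one] at h
    rw [D.χ_deg, show p - 1 = 2 * (t' + 1) by omega] at h
    have h2 : ((∑ φ : IrrCharacter G, m φ * charDegree (φ : G → ℂ) : ℕ) : ℂ) =
        (((t' + 1) * (2 * t' + 1) : ℕ) : ℂ) := by
      push_cast
      rw [← h]
      push_cast
      ring
    exact_mod_cast h2
  have hcard : D.Y.card = t' + 1 := by rw [D.card_Y]; omega
  have hsplit : (m D.χ) * (p - 1) + (t' + 1) * (m D.χ + 1) * (2 * t' + 1) +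
      ∑ φ ∈ Finset.univ \ insert D.χ D.Y, m φ * charDegree (φ : G → ℂ) =
        (t' + 1) * (2 * t' + 1) := by
    rw [← hdeg, ← Finset.sum_sdiff (Finset.subset_univ (insert D.χ D.Y)),
      Finset.sum_insert D.χ_notMem, D.χ_deg,
      Finset.sum_congr (s₁ := D.Y) rfl fun θ hθ => by rw [hkey θ hθ, hYd θ hθ], Finset.sum_const, hcard,
      smul_eq_mul]
    ring
  rw [show p - 1 = 2 * (t' + 1) by omega] at hsplit
  have hmχ : m D.χ = 0 := by
    by_contra hne
    have h1 : 0 < m D.χ * (2 * (t' + 1)) := Nat.mul_pos (Nat.pos_of_ne_zero hne) (by omega)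
    have h2 : (t' + 1) * (2 * t' + 1) ≤ (t' + 1) * (m D.χ + 1) * (2 * t' + 1) :=
      Nat.mul_le_mul_right _ (Nat.le_mul_of_pos_right _ (Nat.succ_pos _))
    omega
  have hrest : ∀ φ ∈ Finset.univ \ insert D.χ D.Y, m φ = 0 := by
    intro φ hφ
    rw [hmχ] at hsplit
    have h0 : ∑ φ ∈ Finset.univ \ insert D.χ D.Y, m φ * charDegree (φ : G → ℂ) = 0 := by linarith
    obtain ⟨k, hk, hk'⟩ := irr_exists_degree φ.2
    have h1 := Finset.sum_eq_zero_iff.1 h0 φ hφ
    rw [show charDegree (φ : G → ℂ) = k by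
      rw [charDegree, hk', Complex.natCast_re, Nat.floor_natCast]] at h1
    exact (Nat.mul_eq_zero.1 h1).resolve_right hk.ne'
  show L g = _
  rw [hexp g, ← Finset.sum_sdiff (Finset.subset_univ (insert D.χ D.Y)),
    Finset.sum_eq_zero fun φ hφ => by rw [hrest φ hφ, Nat.cast_zero, zero_mul],
    Finset.sum_insert D.χ_notMem, hmχ, Nat.cast_zero, zero_mul, zero_add, zero_add]
  refine Finset.sum_congr rfl fun θ hθ => ?_
  rw [hkey θ hθ, hmχ]
  simp

/-- The squaring map on the values at regular elements. -/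
theorem Hyp.val_sq {g : G} (hg : ¬ p ∣ orderOf g) :
    H.val D (g * g) = H.val D g * H.val D g - ((p : ℤ) - 1) * (H.val D g - 1) := by
  obtain ⟨t, ht⟩ := H.odd
  have h := H.wedge_eq D g
  rw [Finset.sum_congr rfl fun θ hθ => D.rel θ hθ g hg, Finset.sum_const, D.card_Y, nsmul_eq_mul,
    H.chi_eq D g, H.chi_eq D (g * g)] at h
  rw [show (p - 1) / 2 = t by omega] at h
  have h' : (H.val D (g * g) : ℂ) =
      ((H.val D g * H.val D g - 2 * (t : ℤ) * (H.val D g - 1) : ℤ) : ℂ) := by
    push_cast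
    linear_combination (-2) * h
  have h'' : H.val D (g * g) = H.val D g * H.val D g - 2 * (t : ℤ) * (H.val D g - 1) := by
    exact_mod_cast h'
  rw [h'', show (p : ℤ) - 1 = 2 * (t : ℤ) by omega]

/-- **The values for `p ≥ 7`.** -/
theorem Hyp.val_cases (h7 : 7 ≤ p) {g : G} (hg : ¬ p ∣ orderOf g) (h1 : g ≠ 1) :
    (H.val D g = 0 ∧ g * g = 1) ∨ (H.val D g = 1 ∧ g * g ≠ 1) := by
  set n : ℤ := (p : ℤ) - 1 with hn
  have hn6 : 6 ≤ n := by omega
  have hsq := H.val_sq D hg
  have hsq' := H.val_sq D (H.regular_sq hg)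
  have hle := H.val_le D g
  have hle2 := H.val_le D (g * g)
  have hle4 := H.val_le D (g * g * (g * g))
  set a := H.val D g with ha
  set b := H.val D (g * g) with hb
  have hbn : 0 ≤ b := by
    by_contra hb0
    nlinarith
  have hane : a ≠ n := fun h => h1 (H.eq_one_of_val D h)
  have ha0 : 0 ≤ a := by
    by_contra ha0
    nlinarith
  have hcases : a = 0 ∨ a = 1 := by
    by_contra hne
    simp only [not_or] at hne
    rcases eq_or_ne a (n - 1) with he | hne1
    · have hd := H.sq_defect D g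
      rw [← ha, ← hb] at hd
      rw [he] at hsq hd
      nlinarith
    · have h2a : 2 ≤ a := by omega
      have h2b : a ≤ n - 2 := by omega
      nlinarith [mul_nonneg (by linarith : (0 : ℤ) ≤ a - 2) (by linarith : (0 : ℤ) ≤ n - 2 - a)]
  rcases hcases with h | h
  · refine Or.inl ⟨h, H.eq_one_of_val D ?_⟩
    show b = n
    rw [hsq, h]
    ring
  · refine Or.inr ⟨h, fun hgg => ?_⟩
    have hb1 : b = n := by rw [hb, hgg, H.val_one D]
    rw [h] at hsq
    linarith

end CfsgLib.PermPrime.TwoP
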